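import Mathlib
import Cfsg.Agent.Helper25.BlockBrauer
import Cfsg.Agent.Helper25.CharKer
import Cfsg.Agent.Helper7.Clifford

/-!
# Shared block-theory library (helper25), part 9: blocks with a central defect group

`blockRank_eq_one_of_central_defect`: a block with a central defect group has `p`-regular rank
one.
-/

set_option autoImplicit false

namespace Cfsg.Agent.Helper25

open Cfsg
open scoped ComplexConjugate

universe u

variable {G : Type u} [Group G] {p : ℕ} {M : Ideal AlgInt}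

/-- If the central character of `χ` at `g` is a unit, then the `p`-part of `|G|` divides
`χ(1) |C_G(g)|`. -/
theorem defect_bound [Finite G] (hM : IsPModular p M) (χ : IrrCharacter G) (g : G)
    (h : ¬ MemLocalIdeal M (centralChar (χ : G → ℂ) g)) :
    (Nat.card G).factorization p ≤ (charDegree (χ : G → ℂ)).factorization p +
      (Nat.card (Subgroup.centralizer ({g} : Set G))).factorization p := by
  classical
  have hp := hM.1
  by_contra hcon
  push Not at hcon
  set C := Subgroup.centralizer ({g} : Set G) with hC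
  have hidx : C.index * Nat.card C = Nat.card G := C.index_mul_card
  have hidx0 : C.index ≠ 0 := Subgroup.index_ne_zero_of_finite
  have hC0 : Nat.card C ≠ 0 := Nat.card_pos.ne'
  have hfac : (Nat.card G).factorization p =
      C.index.factorization p + (Nat.card C).factorization p := by
    rw [← hidx, Nat.factorization_mul hidx0 hC0]
    rfl
  set deg := charDegree (χ : G → ℂ) with hdeg
  have hdeg0 : deg ≠ 0 := (irr_degree_pos χ).ne'
  have hκ : deg.factorization p + 1 ≤ C.index.factorization p := by omega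
  obtain ⟨i', hi'⟩ := (hp.pow_dvd_iff_le_factorization hidx0).mpr hκ
  set t := deg / p ^ deg.factorization p with ht
  have hdegmul : p ^ deg.factorization p * t = deg := Nat.ordProj_mul_ordCompl_eq_self deg p
  have hpt : ¬ p ∣ t := Nat.not_dvd_ordCompl hp hdeg0
  have ht0 : (t : ℂ) ≠ 0 := by
    have : t ≠ 0 := by
      rintro h0
      rw [h0, mul_zero] at hdegmul
      exact hdeg0 hdegmul.symm
    exact_mod_cast this
  have hp0 : (p : ℂ) ≠ 0 := by exact_mod_cast hp.ne_zero
  apply h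
  have e : centralChar (χ : G → ℂ) g = (p : ℂ) * ((i' : ℂ) * (χ : G → ℂ) g * (t : ℂ)⁻¹) := by
    unfold centralChar
    rw [irr_one_eq_degree, ← hdeg, ← hC]
    have h1 : (C.index : ℂ) = (p : ℂ) ^ (deg.factorization p + 1) * (i' : ℂ) := by
      exact_mod_cast hi'
    have h2 : (deg : ℂ) = (p : ℂ) ^ deg.factorization p * (t : ℂ) := by
      exact_mod_cast hdegmul.symm
    rw [h1, h2, pow_succ]
    field_simp
  rw [e]
  exact li_mul_lr hM (li_prime hM) (lr_mul hM (lr_mul hM (lr_natCast hM i')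
    (lr_of_isIntegral hM (irr_isIntegral χ g))) (lr_natCast_inv hM hpt))

theorem dvd_orderOf_of_mem_pGroup (hp : p.Prime) {P : Subgroup G} (hP : IsPGroup p P) (z : P)
    (hz : z ≠ 1) : p ∣ orderOf (z : G) := by
  obtain ⟨k, hk⟩ := hP z
  have h1 : orderOf z ∣ p ^ k := orderOf_dvd_of_pow_eq_one hk
  obtain ⟨j, _, hj⟩ := (Nat.dvd_prime_pow hp).mp h1
  rw [Subgroup.orderOf_coe, hj]
  rcases Nat.eq_zero_or_pos j with h0 | h0
  · rw [h0, pow_zero, orderOf_eq_one_iff] at hj
    exact absurd hj hz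
  · exact dvd_pow_self p h0.ne'

/-- The product of a nontrivial central `p`-element and a `p`-regular element is `p`-singular. -/
theorem dvd_orderOf_mul_of_center (hp : p.Prime) {z x : G} (hz : z ∈ Subgroup.center G)
    (hz1 : z ≠ 1) (k : ℕ) (hzk : z ^ (p ^ k) = 1) (hx : ¬ p ∣ orderOf x) :
    p ∣ orderOf (z * x) := by
  by_contra h
  have hcomm : Commute z x := (Subgroup.mem_center_iff.mp hz x).symm
  have h1 : z ^ (orderOf (z * x) * orderOf x) = 1 := by
    have h2 : (z * x) ^ (orderOf (z * x) * orderOf x) = 1 := by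
      rw [pow_mul, pow_orderOf_eq_one, one_pow]
    have h3 : x ^ (orderOf (z * x) * orderOf x) = 1 := by
      rw [mul_comm, pow_mul, pow_orderOf_eq_one, one_pow]
    rw [hcomm.mul_pow, h3, mul_one] at h2
    exact h2
  have h4 : orderOf z ∣ Nat.gcd (p ^ k) (orderOf (z * x) * orderOf x) :=
    Nat.dvd_gcd (orderOf_dvd_of_pow_eq_one hzk) (orderOf_dvd_of_pow_eq_one h1)
  have h5 : Nat.Coprime (p ^ k) (orderOf (z * x) * orderOf x) :=
    Nat.Coprime.pow_left _ (Nat.Coprime.mul_right ((Nat.Prime.coprime_iff_not_dvd hp).mpr h)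
      ((Nat.Prime.coprime_iff_not_dvd hp).mpr hx))
  rw [h5.gcd_eq_one, Nat.dvd_one, orderOf_eq_one_iff] at h4
  exact hz1 h4

/-- For a central `p`-subgroup `P`, summing over the `p`-regular elements of `G` a function of
the image in `G ⧸ P` that vanishes on `p`-singular elements is the sum over `G ⧸ P`. -/
theorem sum_regular_quotient [Fintype G] (hp : p.Prime) (P : Subgroup G) [P.Normal]
    [Fintype (G ⧸ P)] (hP : IsPGroup p P) (hPZ : P ≤ Subgroup.center G) (F : G ⧸ P → ℂ)
    (hF : ∀ y, p ∣ orderOf y → F y = 0) :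
    ∑ x : G, (if p ∣ orderOf x then 0 else F (QuotientGroup.mk x)) = ∑ y : G ⧸ P, F y := by
  classical
  haveI : Fact p.Prime := ⟨hp⟩
  have h1 : ∑ x : G, (if p ∣ orderOf x then 0 else F (QuotientGroup.mk x)) =
      ∑ x ∈ Finset.univ.filter (fun x : G => ¬ p ∣ orderOf x), F (QuotientGroup.mk x) := by
    rw [Finset.sum_filter]
    apply Finset.sum_congr rfl
    intro x _
    by_cases h : p ∣ orderOf x <;> simp [h]
  have h2 : ∑ y : G ⧸ P, F y =
      ∑ y ∈ Finset.univ.filter (fun y : G ⧸ P => ¬ p ∣ orderOf y), F y := by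
    rw [Finset.sum_filter]
    apply Finset.sum_congr rfl
    intro y _
    by_cases h : p ∣ orderOf y
    · simp [h, hF y h]
    · simp [h]
  rw [h1, h2]
  apply Finset.sum_bij (fun x _ => (QuotientGroup.mk x : G ⧸ P))
  · intro x hx
    simp only [Finset.mem_filter, Finset.mem_univ, true_and] at hx ⊢
    intro hdiv
    exact hx (hdiv.trans (orderOf_map_dvd (QuotientGroup.mk' P) x))
  · intro x hx y hy hxy
    simp only [Finset.mem_filter, Finset.mem_univ, true_and] at hx hy
    have hz : x⁻¹ * y ∈ P := QuotientGroup.eq.mp hxy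
    have hzc : Commute x (x⁻¹ * y) := Subgroup.mem_center_iff.mp (hPZ hz) x
    have hxy' : Commute x y := by
      have h3 : y = x * (x⁻¹ * y) := by group
      rw [h3]
      exact (Commute.refl x).mul_right hzc
    have h4 : (x⁻¹ * y) ^ (orderOf x * orderOf y) = 1 := by
      rw [(hxy'.inv_left).mul_pow, inv_pow, pow_mul, pow_orderOf_eq_one, one_pow, inv_one, one_mul,
        mul_comm, pow_mul, pow_orderOf_eq_one, one_pow]
    obtain ⟨k, hk⟩ := hP ⟨x⁻¹ * y, hz⟩
    have hk' : (x⁻¹ * y) ^ (p ^ k) = 1 := by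
      have := congrArg (fun w : P => (w : G)) hk
      simpa using this
    have h5 : orderOf (x⁻¹ * y) ∣ Nat.gcd (p ^ k) (orderOf x * orderOf y) :=
      Nat.dvd_gcd (orderOf_dvd_of_pow_eq_one hk') (orderOf_dvd_of_pow_eq_one h4)
    have h6 : Nat.Coprime (p ^ k) (orderOf x * orderOf y) :=
      Nat.Coprime.pow_left _ (Nat.Coprime.mul_right ((Nat.Prime.coprime_iff_not_dvd hp).mpr hx)
        ((Nat.Prime.coprime_iff_not_dvd hp).mpr hy))
    rw [h6.gcd_eq_one, Nat.dvd_one, orderOf_eq_one_iff] at h5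
    exact inv_mul_eq_one.mp h5
  · intro y hy
    simp only [Finset.mem_filter, Finset.mem_univ, true_and] at hy
    obtain ⟨g, rfl⟩ := QuotientGroup.mk_surjective y
    set o := orderOf (QuotientGroup.mk g : G ⧸ P) with ho
    obtain ⟨n, hn⟩ := IsPGroup.iff_card.mp hP
    have hcop : Nat.Coprime (p ^ n) o :=
      Nat.Coprime.pow_left _ ((Nat.Prime.coprime_iff_not_dvd hp).mpr hy)
    obtain ⟨e, he1, he2⟩ := Helper7.exists_proj_exp (p ^ n) o hcop
    have hgo : g ^ o ∈ P := by
      rw [← QuotientGroup.eq_one_iff, QuotientGroup.mk_pow, ho, pow_orderOf_eq_one]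
    have hgo' : (g ^ o) ^ (p ^ n) = 1 := by
      have h7 : (⟨g ^ o, hgo⟩ : P) ^ Nat.card P = 1 := pow_card_eq_one'
      rw [hn] at h7
      have := congrArg (fun w : P => (w : G)) h7
      simpa using this
    have hge : (g ^ e) ^ o = 1 := by
      obtain ⟨t, rfl⟩ := he1
      rw [← pow_mul, mul_comm, pow_mul, pow_mul, hgo', one_pow]
    refine ⟨g ^ e, ?_, ?_⟩
    · simp only [Finset.mem_filter, Finset.mem_univ, true_and]
      intro hdiv
      exact hy (hdiv.trans (orderOf_dvd_of_pow_eq_one hge))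
    · rw [QuotientGroup.mk_pow]
      have h8 : (QuotientGroup.mk g : G ⧸ P) ^ e = (QuotientGroup.mk g : G ⧸ P) ^ 1 :=
        pow_eq_pow_iff_modEq.mpr he2
      rw [h8, pow_one]
  · intro _ _
    rfl

open scoped ComplexOrder in
/-- A block with a central defect group has `p`-regular rank one. -/
theorem blockRank_eq_one_of_central_defect [Fintype G] (hM : IsPModular p M)
    {B : Set (IrrCharacter G)} (hB : IsPBlock M B) (P : Subgroup G)
    (hD : IsDefectGroup p M B P) (hPZ : P ≤ Subgroup.center G) : blockRank p B = 1 := by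
  classical
  have hp := hM.1
  haveI : Fact p.Prime := ⟨hp⟩
  obtain ⟨g, hg, Q, hPQ⟩ := hD
  haveI hPn : P.Normal := ⟨fun n hn x => by
    have h1 := Subgroup.mem_center_iff.mp (hPZ hn) x
    rw [h1, mul_inv_cancel_right]
    exact hn⟩
  have hPcard : Nat.card P =
      p ^ (Nat.card (Subgroup.centralizer ({g} : Set G))).factorization p := by
    rw [hPQ, Subgroup.card_map_of_injective (Subgroup.subtype_injective _)]
    exact Sylow.card_eq_multiplicity Q
  have hPp : IsPGroup p P := IsPGroup.of_card hPcard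
  have hPC : (Nat.card P : ℂ) ≠ 0 := by exact_mod_cast Nat.card_pos.ne'
  have hlr := blockCoeff_lr hM hB
  set S := (Set.toFinite B).toFinset with hS
  have hmem : ∀ θ : IrrCharacter G, θ ∈ S ↔ θ ∈ B := fun θ => Set.Finite.mem_toFinset _
  obtain ⟨χ₁, hχ₁⟩ : ∃ χ₁, χ₁ ∈ B := by
    obtain ⟨χ, rfl⟩ := hB
    exact ⟨χ, sameBlock_refl hM _⟩
  -- degrees
  have hdeg : ∀ θ ∈ B, (Nat.card G).factorization p ≤ (charDegree (θ : G → ℂ)).factorization p +
      (Nat.card (Subgroup.centralizer ({g} : Set G))).factorization p :=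
    fun θ hθ => defect_bound hM θ g (hg.2.2 θ hθ)
  -- averaging constants
  have hc : ∀ θ : IrrCharacter G, ∃ c : ℂ, (c = 0 ∨ c = 1) ∧
      ∀ x : G, ∑ z : P, (θ : G → ℂ) ((z : G) * x) = (Nat.card P : ℂ) * (c * (θ : G → ℂ) x) := by
    intro θ
    obtain ⟨c, hc1, hc2, -⟩ := Helper7.avg_irr P (θ : G → ℂ) θ.2
    refine ⟨c, hc1, fun x => ?_⟩
    rw [← hc2 x, ← mul_assoc, mul_inv_cancel₀ hPC, one_mul]
  choose c hc01 hcav using hc
  -- Step A: some member of `B` has `P` in its kernel
  have hA : ∃ θ ∈ B, c θ = 1 := by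
    by_contra hno
    push Not at hno
    have h0 : ∀ θ ∈ S, c θ = 0 := fun θ hθ =>
      (hc01 θ).resolve_right (hno θ ((hmem θ).mp hθ))
    have h1 : ∑ z : P, ∑ θ ∈ S, (θ : G → ℂ) 1 * (θ : G → ℂ) (z : G) = 0 := by
      rw [Finset.sum_comm]
      apply Finset.sum_eq_zero
      intro θ hθ
      rw [← Finset.mul_sum]
      have h2 := hcav θ 1
      simp only [mul_one] at h2
      rw [h2, h0 θ hθ]
      simp
    have h2 : ∑ z : P, ∑ θ ∈ S, (θ : G → ℂ) 1 * (θ : G → ℂ) (z : G) =
        ∑ θ ∈ S, (θ : G → ℂ) 1 * (θ : G → ℂ) 1 := by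
      rw [Finset.sum_eq_single (1 : P)]
      · rfl
      · intro z _ hz
        have hsing : p ∣ orderOf ((z : G)⁻¹) := by
          rw [orderOf_inv]
          exact dvd_orderOf_of_mem_pGroup hp hPp z hz
        have h3 := blockCoeff_eq_zero_of_singular hM hB _ hsing
        rw [blockCoeff_eq_sum, inv_inv] at h3
        exact (mul_eq_zero.mp h3).resolve_left (inv_ne_zero card_ne_zero)
      · intro h
        exact absurd (Finset.mem_univ _) h
    rw [h2] at h1
    have h4 : ∑ θ ∈ S, (θ : G → ℂ) 1 * (θ : G → ℂ) 1 =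
        ((∑ θ ∈ S, charDegree (θ : G → ℂ) ^ 2 : ℕ) : ℂ) := by
      push_cast
      apply Finset.sum_congr rfl
      intro θ _
      rw [irr_one_eq_degree]
      ring
    rw [h4] at h1
    have h5 : ∑ θ ∈ S, charDegree (θ : G → ℂ) ^ 2 = 0 := by exact_mod_cast h1
    have h6 : charDegree (χ₁ : G → ℂ) ^ 2 ≤ ∑ θ ∈ S, charDegree (θ : G → ℂ) ^ 2 :=
      Finset.single_le_sum (f := fun θ : IrrCharacter G => charDegree (θ : G → ℂ) ^ 2)
        (fun _ _ => Nat.zero_le _) ((hmem χ₁).mpr hχ₁)
    have h7 := irr_degree_pos χ₁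
    have h8 : 0 < charDegree (χ₁ : G → ℂ) ^ 2 := by positivity
    omega
  -- members of `B` with `c = 1` contain `P` in their kernel
  have hker : ∀ θ : IrrCharacter G, c θ = 1 → P ≤ irrKer θ := by
    intro θ hθ z₀ hz₀
    rw [mem_irrKer]
    have h1 := hcav θ z₀
    have h2 := hcav θ 1
    rw [hθ, one_mul] at h1 h2
    simp only [mul_one] at h2
    have h3 : ∑ z : P, (θ : G → ℂ) ((z : G) * z₀) = ∑ z : P, (θ : G → ℂ) (z : G) := by
      have := Equiv.sum_comp (Equiv.mulRight (⟨z₀, hz₀⟩ : P)) (fun z : P => (θ : G → ℂ) (z : G))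
      rw [← this]
      rfl
    rw [h3, h2] at h1
    exact (mul_left_cancel₀ hPC h1).symm
  -- Step B: uniqueness
  haveI : Fintype (G ⧸ P) := Fintype.ofFinite _
  have hB1 : ∀ θ₁ ∈ B, ∀ θ₂ ∈ B, c θ₁ = 1 → c θ₂ = 1 → θ₂ = θ₁ := by
    intro θ₁ hθ₁ θ₂ hθ₂ hc₁ hc₂
    obtain ⟨ψ₁, hψ₁⟩ := exists_deflate θ₁ P (hker θ₁ hc₁)
    obtain ⟨ψ₂, hψ₂⟩ := exists_deflate θ₂ P (hker θ₂ hc₂)
    have hdegψ : charDegree (ψ₁ : G ⧸ P → ℂ) = charDegree (θ₁ : G → ℂ) := by
      unfold charDegree
      rw [← hψ₁ 1]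
      rfl
    have hdz : (Nat.card (G ⧸ P)).factorization p ≤
        (charDegree (ψ₁ : G ⧸ P → ℂ)).factorization p := by
      rw [hdegψ]
      have h1 := hdeg θ₁ hθ₁
      have h2 : Nat.card (G ⧸ P) * Nat.card P = Nat.card G := by
        rw [← Subgroup.index_eq_card, Subgroup.index_mul_card]
      have h3 : (Nat.card G).factorization p =
          (Nat.card (G ⧸ P)).factorization p + (Nat.card P).factorization p := by
        rw [← h2, Nat.factorization_mul Nat.card_pos.ne' Nat.card_pos.ne']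
        rfl
      rw [hPcard, Nat.Prime.factorization_pow hp] at h3
      simp only [Finsupp.single_eq_same] at h3
      omega
    set B₁ := blockOf M (ψ₁ : G ⧸ P → ℂ) with hB₁
    have hB₁blk : IsPBlock M B₁ := isPBlock_blockOf ψ₁
    have hψ₁mem : ψ₁ ∈ B₁ := sameBlock_refl hM _
    have hB₁eq : ∀ ψ' ∈ B₁, ψ' = ψ₁ := fun ψ' hψ' =>
      eq_of_mem_block_of_defect_zero hM hB₁blk hψ₁mem hψ' hdz
    set f : G → ℂ := fun x => if p ∣ orderOf x then 0 else blockCoeff B₁ (QuotientGroup.mk x)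
      with hf
    have hfcl : ∀ x y : G, f (y * x * y⁻¹) = f x := by
      intro x y
      simp only [hf, orderOf_conj_eq]
      have h1 : (QuotientGroup.mk (y * x * y⁻¹) : G ⧸ P) =
          QuotientGroup.mk y * QuotientGroup.mk x * (QuotientGroup.mk y)⁻¹ := rfl
      rw [h1, blockCoeff_conj]
    have hflr : ∀ x, MemLocalRing M (f x) := by
      intro x
      simp only [hf]
      split_ifs
      · exact lr_zero hM
      · exact blockCoeff_lr hM hB₁blk _
    have homega : ∀ (θ : IrrCharacter G) (ψ : IrrCharacter (G ⧸ P)),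
        (∀ x : G, (ψ : G ⧸ P → ℂ) (QuotientGroup.mk x) = (θ : G → ℂ) x) →
        omega f θ = if ψ ∈ B₁ then 1 else 0 := by
      intro θ ψ hψ
      rw [← omega_blockCoeff B₁ ψ]
      unfold omega
      rw [← hψ 1]
      congr 1
      rw [← sum_regular_quotient hp P hPp hPZ
        (fun y => blockCoeff B₁ y * (ψ : G ⧸ P → ℂ) y) (fun y hy => by
          rw [blockCoeff_eq_zero_of_singular hM hB₁blk y hy, zero_mul])]
      apply Finset.sum_congr rfl
      intro x _
      simp only [hf]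
      split_ifs
      · rw [zero_mul]
      · rw [hψ x]
    have h1 := omega_congr hM f hfcl hflr (sameBlock_of_mem hM hB hθ₁ hθ₂)
    rw [homega θ₁ ψ₁ hψ₁, homega θ₂ ψ₂ hψ₂, if_pos hψ₁mem] at h1
    have hψ₂mem : ψ₂ ∈ B₁ := by
      by_contra hn
      rw [if_neg hn, sub_zero] at h1
      exact not_li_one hM h1
    have h2 := hB₁eq ψ₂ hψ₂mem
    apply Subtype.ext
    funext x
    rw [← hψ₁ x, ← hψ₂ x, h2]
  obtain ⟨χ₀, hχ₀, hcχ₀⟩ := hA
  have hc0 : ∀ θ ∈ S, θ ≠ χ₀ → c θ = 0 := by
    intro θ hθ hne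
    rcases hc01 θ with h | h
    · exact h
    · exact absurd (hB1 χ₀ hχ₀ θ ((hmem θ).mp hθ) hcχ₀ h) hne
  -- Step C
  have hΦ : ∀ x y : G, ¬ p ∣ orderOf x → ¬ p ∣ orderOf y →
      ∑ θ ∈ S, (θ : G → ℂ) x * (θ : G → ℂ) y⁻¹ =
        (Nat.card P : ℂ) * ((χ₀ : G → ℂ) x * (χ₀ : G → ℂ) y⁻¹) := by
    intro x y hx hy
    have h1 : ∑ z : P, ∑ θ ∈ S, (θ : G → ℂ) ((z : G) * x) * (θ : G → ℂ) y⁻¹ =
        (Nat.card P : ℂ) * ((χ₀ : G → ℂ) x * (χ₀ : G → ℂ) y⁻¹) := by
      rw [Finset.sum_comm]
      have h2 : ∀ θ ∈ S, ∑ z : P, (θ : G → ℂ) ((z : G) * x) * (θ : G → ℂ) y⁻¹ =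
          (Nat.card P : ℂ) * (c θ * (θ : G → ℂ) x) * (θ : G → ℂ) y⁻¹ := by
        intro θ _
        rw [← Finset.sum_mul, hcav θ x]
      rw [Finset.sum_congr rfl h2, Finset.sum_eq_single χ₀]
      · rw [hcχ₀]
        ring
      · intro θ hθ hne
        rw [hc0 θ hθ hne]
        ring
      · intro h
        exact absurd ((hmem χ₀).mpr hχ₀) h
    have h3 : ∑ z : P, ∑ θ ∈ S, (θ : G → ℂ) ((z : G) * x) * (θ : G → ℂ) y⁻¹ =
        ∑ θ ∈ S, (θ : G → ℂ) x * (θ : G → ℂ) y⁻¹ := by
      rw [Finset.sum_eq_single (1 : P)]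
      · simp
      · intro z _ hz
        obtain ⟨k, hk⟩ := hPp z
        have hk' : (z : G) ^ (p ^ k) = 1 := by
          have := congrArg (fun w : P => (w : G)) hk
          simpa using this
        have hz1 : (z : G) ≠ 1 := fun h => hz (Subtype.ext h)
        have hsing : p ∣ orderOf (((z : G) * x)⁻¹) := by
          rw [orderOf_inv]
          exact dvd_orderOf_mul_of_center hp (hPZ z.2) hz1 k hk' hx
        have h4 := weak_block_orth hM hB y⁻¹ (((z : G) * x)⁻¹) (by rwa [orderOf_inv]) hsing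
        rw [inv_inv] at h4
        rw [← h4]
        apply Finset.sum_congr rfl
        intro θ _
        ring
      · intro h
        exact absurd (Finset.mem_univ _) h
    rw [← h3, h1]
  -- the rank
  haveI : Fintype B := Fintype.ofFinite B
  have hle : blockRank p B ≤ 1 := by
    rw [blockRank_eq_rank, ← Matrix.rank_self_mul_conjTranspose]
    have hAA : regMatrix p B * (regMatrix p B).conjTranspose =
        Matrix.vecMulVec (fun x => (Nat.card P : ℂ) * pRegularPart p (χ₀ : G → ℂ) x)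
          (fun y => conj (pRegularPart p (χ₀ : G → ℂ) y)) := by
      ext x y
      rw [Matrix.mul_apply]
      simp only [regMatrix, Matrix.of_apply, Matrix.conjTranspose_apply, Matrix.vecMulVec_apply]
      rw [← Finset.sum_subtype S hmem
        (fun θ => pRegularPart p (θ : G → ℂ) x * star (pRegularPart p (θ : G → ℂ) y))]
      by_cases hx : p ∣ orderOf x
      · simp [pRegularPart_of_sing hx]
      · by_cases hy : p ∣ orderOf y
        · simp [pRegularPart_of_sing hy]
        · simp only [pRegularPart_of_reg hx, pRegularPart_of_reg hy]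
          have h1 := hΦ x y hx hy
          simp only [irr_inv] at h1
          rw [mul_assoc, ← h1]
          rfl
    rw [hAA]
    exact Matrix.rank_vecMulVec_le _ _
  have hge : 0 < blockRank p B := by
    unfold blockRank
    rw [Module.finrank_pos_iff_exists_ne_zero]
    refine ⟨⟨pRegularPart p (χ₀ : G → ℂ), Submodule.subset_span ⟨χ₀, hχ₀, rfl⟩⟩, ?_⟩
    intro h0
    have h1 := congrArg (fun v : ↥(Submodule.span ℂ ((fun χ : IrrCharacter G =>
      pRegularPart p (χ : G → ℂ)) '' B)) => (v : G → ℂ) 1) h0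
    simp only [Submodule.coe_zero, Pi.zero_apply] at h1
    rw [pRegularPart_of_reg (by
      rw [orderOf_one]
      exact fun h => hp.one_lt.ne' (Nat.dvd_one.mp h))] at h1
    exact irr_one_ne_zero χ₀ h1
  omega

end Cfsg.Agent.Helper25
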