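import Mathlib
import Cfsg.Agent.Helper25.BlockBrauer
import Cfsg.Agent.Helper25.BlockCentral
import Cfsg.Agent.Helper7.Defect

/-!
# Shared block-theory library (helper25), part 13: the Brauer–Feit lemma

For a block `B` of defect `d` and a character `χ ∈ B` of height zero, the integers
`p ^ d * gram p χ ψ` (`ψ ∈ B`) have `p`-adic valuation exactly the height of `ψ`
(`gram_height`).  The proof uses the congruence `li_gram_ratio`, restriction of generalized
characters to `D × ⟨g⟩` for a defect class `g` with defect group `D` (`genChar_cyclic_int`),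
and the fact that height-zero characters are units on defect classes.
-/

set_option autoImplicit false

namespace Cfsg.Agent.Helper25

open Cfsg
open scoped ComplexConjugate

universe u

variable {G : Type u} [Group G] {p : ℕ} {M : Ideal AlgInt}

theorem li_intCast_iff (hM : IsPModular p M) (k : ℤ) :
    MemLocalIdeal M (k : ℂ) ↔ (p : ℤ) ∣ k := by
  rw [Int.natCast_dvd, ← li_natCast_iff hM]
  rcases Int.natAbs_eq k with h | h
  · conv_lhs => rw [h]
    rw [Int.cast_natCast]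
  · conv_lhs => rw [h]
    rw [Int.cast_neg, Int.cast_natCast]
    exact ⟨fun hh => by simpa using li_neg hh, li_neg⟩

theorem int_dvd_of_lr_div (hM : IsPModular p M) (k : ℤ) (b : ℕ)
    (h : MemLocalRing M ((k : ℂ) / (p : ℂ) ^ b)) : ((p ^ b : ℕ) : ℤ) ∣ k := by
  rw [Int.natCast_dvd]
  apply dvd_of_lr_div hM
  rcases Int.natAbs_eq k with h1 | h1
  · rw [h1, Int.cast_natCast] at h
    exact h
  · rw [h1, Int.cast_neg, Int.cast_natCast, neg_div] at h
    simpa using lr_neg h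

/-- Restriction of a generalized character vanishing on `p`-singular elements to `D × ⟨g⟩`,
where `g` is `p`-regular and `D` is a `p`-subgroup centralizing `g`. -/
theorem genChar_cyclic_int [Finite G] (hp : p.Prime) (θ : G → ℂ)
    (hθ : IsGeneralizedCharacter G θ) (hθs : ∀ x : G, p ∣ orderOf x → θ x = 0)
    (g : G) (hg : ¬ p ∣ orderOf g) (D : Subgroup G) (hD : IsPGroup p D)
    (hDg : D ≤ Subgroup.centralizer ({g} : Set G)) [Fintype (Subgroup.zpowers g)]
    (ψ : IrrCharacter (Subgroup.zpowers g)) :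
    ∃ m : ℤ, ∑ y : Subgroup.zpowers g, θ (y : G) * conj ((ψ : Subgroup.zpowers g → ℂ) y)
      = (m : ℂ) * (Nat.card D : ℂ) * (Nat.card (Subgroup.zpowers g) : ℂ) := by
  classical
  let _ : Fintype D := Fintype.ofFinite D
  have hcomm : ∀ (d : D) (y : Subgroup.zpowers g), Commute ((d : G)) ((y : G)) := by
    intro d y
    obtain ⟨k, hk⟩ := Subgroup.mem_zpowers_iff.mp y.2
    rw [← hk]
    apply Commute.zpow_right
    exact (Subgroup.mem_centralizer_singleton_iff.mp (hDg d.2))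
  let φ : D × Subgroup.zpowers g →* G :=
    MonoidHom.noncommCoprod D.subtype (Subgroup.zpowers g).subtype hcomm
  have hφ : ∀ z : D × Subgroup.zpowers g, φ z = (z.1 : G) * (z.2 : G) := fun z => rfl
  obtain ⟨χ₁, χ₂, h1, h2, rfl⟩ := hθ
  have hμ : IsCharacter (D × Subgroup.zpowers g)
      (fun z => (ψ : Subgroup.zpowers g → ℂ) ((MonoidHom.snd D (Subgroup.zpowers g)) z)) :=
    Helper2.isCharacter_comp (MonoidHom.snd D (Subgroup.zpowers g)) (irr_isCharacter ψ)
  obtain ⟨m₁, hm₁⟩ := Helper2.classInner_char_nat (Helper2.isCharacter_comp φ h1) hμ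
  obtain ⟨m₂, hm₂⟩ := Helper2.classInner_char_nat (Helper2.isCharacter_comp φ h2) hμ
  refine ⟨(m₁ : ℤ) - (m₂ : ℤ), ?_⟩
  have hsing : ∀ (d : D) (y : Subgroup.zpowers g), d ≠ 1 → p ∣ orderOf ((d : G) * (y : G)) := by
    intro d y hd
    have hd1 : p ∣ orderOf (d : G) := dvd_orderOf_of_mem_pGroup hp hD d hd
    obtain ⟨k, hk⟩ := hD d
    have hd2 : orderOf (d : G) ∣ p ^ k := by
      rw [Subgroup.orderOf_coe]
      exact orderOf_dvd_of_pow_eq_one hk
    have hy : orderOf (y : G) ∣ orderOf g := orderOf_dvd_of_mem_zpowers y.2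
    have hcop : (orderOf (d : G)).Coprime (orderOf (y : G)) := by
      apply Nat.Coprime.coprime_dvd_left hd2
      apply Nat.Coprime.pow_left
      apply Nat.Coprime.coprime_dvd_right hy
      exact (Nat.Prime.coprime_iff_not_dvd hp).mpr hg
    rw [(hcomm d y).orderOf_mul_eq_mul_orderOf_of_coprime hcop]
    exact Dvd.dvd.mul_right hd1 _
  have key : ∑ z : D × Subgroup.zpowers g, (χ₁ - χ₂) (φ z) *
        conj ((ψ : Subgroup.zpowers g → ℂ) z.2)
      = ∑ y : Subgroup.zpowers g, (χ₁ - χ₂) (y : G) * conj ((ψ : Subgroup.zpowers g → ℂ) y) := by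
    rw [Fintype.sum_prod_type, Finset.sum_eq_single (1 : D)]
    · apply Finset.sum_congr rfl
      intro y _
      rw [hφ]
      simp
    · intro d _ hd
      apply Finset.sum_eq_zero
      intro y _
      rw [hφ, hθs _ (hsing d y hd), zero_mul]
    · intro h
      exact absurd (Finset.mem_univ _) h
  have hcard : (Nat.card (D × Subgroup.zpowers g) : ℂ)
      = (Nat.card D : ℂ) * (Nat.card (Subgroup.zpowers g) : ℂ) := by
    rw [Nat.card_prod]
    push_cast
    rfl
  have hne : (Nat.card (D × Subgroup.zpowers g) : ℂ) ≠ 0 := card_ne_zero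
  have e1 : classInner (fun z : D × Subgroup.zpowers g => χ₁ (φ z))
        (fun z => (ψ : Subgroup.zpowers g → ℂ) ((MonoidHom.snd D (Subgroup.zpowers g)) z))
      - classInner (fun z : D × Subgroup.zpowers g => χ₂ (φ z))
        (fun z => (ψ : Subgroup.zpowers g → ℂ) ((MonoidHom.snd D (Subgroup.zpowers g)) z))
      = (Nat.card (D × Subgroup.zpowers g) : ℂ)⁻¹ *
        ∑ z : D × Subgroup.zpowers g, (χ₁ - χ₂) (φ z) *
          conj ((ψ : Subgroup.zpowers g → ℂ) z.2) := by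
    unfold classInner
    rw [← mul_sub, ← Finset.sum_sub_distrib]
    congr 1
    apply Finset.sum_congr rfl
    intro z _
    simp only [Pi.sub_apply, MonoidHom.coe_snd]
    ring
  rw [hm₁, hm₂, key] at e1
  have e2 : ∑ y : Subgroup.zpowers g, (χ₁ - χ₂) (y : G) *
      conj ((ψ : Subgroup.zpowers g → ℂ) y)
      = ((m₁ : ℂ) - (m₂ : ℂ)) * (Nat.card (D × Subgroup.zpowers g) : ℂ) := by
    rw [e1]
    field_simp
  rw [e2, hcard]
  push_cast
  ring

/-- The fundamental congruence: `|G| * gram χ ψ / ψ(1)` only depends on the block of `ψ`,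
modulo the local ideal. -/
theorem li_gram_ratio [Fintype G] (hM : IsPModular p M) (χ : IrrCharacter G)
    {ψ ψ' : IrrCharacter G} (h : SameBlock M (ψ : G → ℂ) (ψ' : G → ℂ)) :
    MemLocalIdeal M ((Nat.card G : ℂ) * gram p (χ : G → ℂ) (ψ : G → ℂ) / (ψ : G → ℂ) 1
      - (Nat.card G : ℂ) * gram p (χ : G → ℂ) (ψ' : G → ℂ) / (ψ' : G → ℂ) 1) := by
  classical
  have key : ∀ φ : IrrCharacter G,
      omega (fun x : G => pRegularPart p (χ : G → ℂ) x⁻¹) φ
        = (Nat.card G : ℂ) * gram p (χ : G → ℂ) (φ : G → ℂ) / (φ : G → ℂ) 1 := by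
    intro φ
    unfold omega
    rw [gram_eq, ← mul_assoc, mul_inv_cancel₀ card_ne_zero, one_mul]
    congr 1
    rw [← Equiv.sum_comp (Equiv.inv G)]
    apply Finset.sum_congr rfl
    intro x _
    simp
  have h1 := omega_congr hM (fun x : G => pRegularPart p (χ : G → ℂ) x⁻¹)
    (fun g x => by
      have e : (x * g * x⁻¹)⁻¹ = x * g⁻¹ * x⁻¹ := by group
      show pRegularPart p (χ : G → ℂ) (x * g * x⁻¹)⁻¹ = pRegularPart p (χ : G → ℂ) g⁻¹
      rw [e, pRegularPart_conj (irr_conj χ)])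
    (fun g => by
      show MemLocalRing M (pRegularPart p (χ : G → ℂ) g⁻¹)
      by_cases hg : p ∣ orderOf g⁻¹
      · rw [pRegularPart_of_sing hg]
        exact lr_zero hM
      · rw [pRegularPart_of_reg hg]
        exact lr_of_isIntegral hM (irr_isIntegral χ _)) h
  rw [key, key] at h1
  exact h1

/-- Degrees, defects and heights. -/
theorem factorization_degree_add_defect [Finite G] {B : Set (IrrCharacter G)}
    {ψ : IrrCharacter G} (hψ : ψ ∈ B) :
    (charDegree (ψ : G → ℂ)).factorization p + blockDefect p B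
      = (Nat.card G).factorization p + blockHeight p B (ψ : G → ℂ) := by
  unfold blockDefect blockHeight
  have h1 : sInf ((fun χ : IrrCharacter G => (charDegree (χ : G → ℂ)).factorization p) '' B)
      ≤ (charDegree (ψ : G → ℂ)).factorization p := Nat.sInf_le ⟨ψ, hψ, rfl⟩
  have h2 : (charDegree (ψ : G → ℂ)).factorization p ≤ (Nat.card G).factorization p :=
    (Nat.factorization_le_iff_dvd (irr_degree_pos ψ).ne' Nat.card_pos.ne').mpr
      (irr_degree_dvd_card ψ) p
  omega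

/-- For `ψ` in a block `B` of defect `d`: `|G| / ψ(1)` is a unit times `p ^ d / p ^ height`. -/
theorem ratio_eq [Finite G] (hM : IsPModular p M) {B : Set (IrrCharacter G)}
    {ψ : IrrCharacter G} (hψ : ψ ∈ B) :
    ∃ r : ℂ, MemLocalRing M r ∧ ¬ MemLocalIdeal M r ∧ ∀ w : ℂ,
      (Nat.card G : ℂ) * w / (ψ : G → ℂ) 1
        = r * (((p ^ blockDefect p B : ℕ) : ℂ) * w) / ((p ^ blockHeight p B (ψ : G → ℂ) : ℕ) : ℂ) := by
  have hp := hM.1
  have hG0 : Nat.card G ≠ 0 := Nat.card_pos.ne'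
  have hd0 : charDegree (ψ : G → ℂ) ≠ 0 := (irr_degree_pos ψ).ne'
  set a := (Nat.card G).factorization p with ha
  set ν := (charDegree (ψ : G → ℂ)).factorization p with hν
  set m := Nat.card G / p ^ a with hm
  set mψ := charDegree (ψ : G → ℂ) / p ^ ν with hmψ
  have hGeq : Nat.card G = p ^ a * m := (Nat.ordProj_mul_ordCompl_eq_self _ p).symm
  have hdeq : charDegree (ψ : G → ℂ) = p ^ ν * mψ := (Nat.ordProj_mul_ordCompl_eq_self _ p).symm
  have hmnd : ¬ p ∣ m := Nat.not_dvd_ordCompl hp hG0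
  have hmψnd : ¬ p ∣ mψ := Nat.not_dvd_ordCompl hp hd0
  have hmψ0 : (mψ : ℂ) ≠ 0 := by
    have : mψ ≠ 0 := fun h0 => hmψnd (h0 ▸ dvd_zero p)
    exact_mod_cast this
  have hp0 : (p : ℂ) ≠ 0 := by exact_mod_cast hp.ne_zero
  have hsum := factorization_degree_add_defect (p := p) hψ
  refine ⟨(m : ℂ) * (mψ : ℂ)⁻¹, lr_mul hM (lr_natCast hM m) (lr_natCast_inv hM hmψnd), ?_, ?_⟩
  · intro hli
    have h1 := li_mul_lr hM hli (lr_natCast hM mψ)
    rw [mul_assoc, inv_mul_cancel₀ hmψ0, mul_one] at h1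
    exact hmnd ((li_natCast_iff hM m).mp h1)
  · intro w
    rw [irr_one_eq_degree]
    have e1 : (Nat.card G : ℂ) = (p : ℂ) ^ a * (m : ℂ) := by
      conv_lhs => rw [hGeq]
      push_cast
      rfl
    have e2 : (charDegree (ψ : G → ℂ) : ℂ) = (p : ℂ) ^ ν * (mψ : ℂ) := by
      conv_lhs => rw [hdeq]
      push_cast
      rfl
    have e3 : (p : ℂ) ^ a * (p : ℂ) ^ blockHeight p B (ψ : G → ℂ)
        = (p : ℂ) ^ ν * (p : ℂ) ^ blockDefect p B := by
      rw [← pow_add, ← pow_add, hsum]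
    rw [e1, e2]
    push_cast
    have hpν : (p : ℂ) ^ ν ≠ 0 := pow_ne_zero _ hp0
    have hph : (p : ℂ) ^ blockHeight p B (ψ : G → ℂ) ≠ 0 := pow_ne_zero _ hp0
    field_simp
    linear_combination (m : ℂ) * w * e3

/-- The key step of the Brauer–Feit lemma: for a height-zero character `χ` of a block of defect
`d`, the integer `p ^ d * gram χ χ` is not divisible by `p`. -/
theorem gram_self_not_dvd [Fintype G] [Fact p.Prime] (hM : IsPModular p M)
    {B : Set (IrrCharacter G)} (hB : IsPBlock M B) {χ : IrrCharacter G} (hχ : χ ∈ B)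
    (h0 : blockHeight p B (χ : G → ℂ) = 0) (t : ℤ)
    (ht : ((p ^ blockDefect p B : ℕ) : ℂ) * gram p (χ : G → ℂ) (χ : G → ℂ) = t) :
    ¬ (p : ℤ) ∣ t := by
  classical
  have hp := hM.1
  have hp0 : (p : ℂ) ≠ 0 := by exact_mod_cast hp.ne_zero
  intro hdvd
  obtain ⟨r', hr', hrn', hrw'⟩ := ratio_eq hM hχ
  have hall : ∀ ψ : IrrCharacter G, ∃ s : ℤ,
      ((p ^ blockDefect p B : ℕ) : ℂ) * gram p (χ : G → ℂ) (ψ : G → ℂ) = (p : ℂ) * s := by
    intro ψ
    by_cases hψ : ψ ∈ B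
    · obtain ⟨k, hk⟩ := gram_defect_int hM B hχ ψ
      obtain ⟨r, hr, hrn, hrw⟩ := ratio_eq hM hψ
      have h1 := li_gram_ratio (p := p) hM χ (sameBlock_of_mem hM hB hψ hχ)
      rw [hrw, hrw', hk, ht, h0, pow_zero, Nat.cast_one, div_one] at h1
      have h2 : MemLocalIdeal M (r' * (t : ℂ)) :=
        lr_mul_li hM hr' ((li_intCast_iff hM t).mpr hdvd)
      have h3 : MemLocalIdeal M
          (r * (k : ℂ) / ((p ^ blockHeight p B (ψ : G → ℂ) : ℕ) : ℂ)) := by
        have := li_add hM h1 h2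
        rwa [sub_add_cancel] at this
      have h4 : MemLocalIdeal M ((k : ℂ) / ((p ^ blockHeight p B (ψ : G → ℂ) : ℕ) : ℂ)) := by
        apply li_of_mul_left hM hr hrn
        rw [← mul_div_assoc]
        exact h3
      have hph : ((p ^ blockHeight p B (ψ : G → ℂ) : ℕ) : ℂ) ≠ 0 := by
        exact_mod_cast (pow_pos hp.pos _).ne'
      have h5 : MemLocalIdeal M (k : ℂ) := by
        have := li_mul_lr hM h4 (lr_natCast hM (p ^ blockHeight p B (ψ : G → ℂ)))
        rwa [div_mul_cancel₀ _ hph] at this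
      obtain ⟨s, hs⟩ := (li_intCast_iff hM k).mp h5
      exact ⟨s, by rw [hk, hs]; push_cast; ring⟩
    · exact ⟨0, by rw [gram_eq_zero_of_lr hM B (blockCoeff_lr hM hB) hχ hψ]; simp⟩
  choose s hs using hall
  obtain ⟨θ, hθdef⟩ : ∃ θ : G → ℂ, θ = fun x =>
      ((p ^ blockDefect p B : ℕ) : ℂ) / (p : ℂ) * pRegularPart p (χ : G → ℂ) x := ⟨_, rfl⟩
  have hθ : IsGeneralizedCharacter G θ := by
    rw [Helper2.isGeneralizedCharacter_iff]
    refine ⟨fun g h => ?_, fun ψ => ⟨s ψ, ?_⟩⟩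
    · rw [hθdef]
      show _ * pRegularPart p (χ : G → ℂ) (h * g * h⁻¹) = _ * pRegularPart p (χ : G → ℂ) g
      rw [pRegularPart_conj (irr_conj χ)]
    · rw [classInner_eq_bil _ (irr_isCharacter ψ)]
      have e : bil θ (ψ : G → ℂ) = ((p ^ blockDefect p B : ℕ) : ℂ) / (p : ℂ) *
          gram p (χ : G → ℂ) (ψ : G → ℂ) := by
        rw [hθdef]
        unfold gram bil
        simp only [Finset.mul_sum]
        apply Finset.sum_congr rfl
        intro g _
        ring
      rw [e, div_mul_eq_mul_div, hs ψ, mul_div_cancel_left₀ _ hp0]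
  have hθs : ∀ x : G, p ∣ orderOf x → θ x = 0 := by
    intro x hx
    rw [hθdef]
    show _ * pRegularPart p (χ : G → ℂ) x = 0
    rw [pRegularPart_of_sing hx, mul_zero]
  obtain ⟨g, hg⟩ := exists_isDefectClass hM hB
  have hgreg : ¬ p ∣ orderOf g := Helper7.isDefectClass_regular hM hB hg
  obtain ⟨P⟩ : Nonempty (Sylow p (Subgroup.centralizer ({g} : Set G))) := inferInstance
  obtain ⟨D, hDdef⟩ : ∃ D : Subgroup G,
      D = (P : Subgroup (Subgroup.centralizer ({g} : Set G))).map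
        (Subgroup.centralizer ({g} : Set G)).subtype := ⟨_, rfl⟩
  have hDcard : Nat.card D = p ^ blockDefect p B :=
    Helper7.card_defectGroup hM hB ⟨g, hg, P, hDdef⟩
  have hDp : IsPGroup p D := by
    rw [hDdef]
    exact P.2.map _
  have hDle : D ≤ Subgroup.centralizer ({g} : Set G) := by
    rw [hDdef]
    exact Subgroup.map_subtype_le _
  let _ : Fintype (Subgroup.zpowers g) := Fintype.ofFinite _
  have hyreg : ∀ y : Subgroup.zpowers g, ¬ p ∣ orderOf (y : G) := fun y hy =>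
    hgreg (dvd_trans hy (orderOf_dvd_of_mem_zpowers y.2))
  have hA : ∀ ψ' : IrrCharacter (Subgroup.zpowers g), ∃ m : ℤ,
      bil (fun y : Subgroup.zpowers g => (χ : G → ℂ) y) (ψ' : Subgroup.zpowers g → ℂ)
        = (p : ℂ) * m := by
    intro ψ'
    obtain ⟨m, hm⟩ := genChar_cyclic_int hp θ hθ hθs g hgreg D hDp hDle ψ'
    refine ⟨m, ?_⟩
    have h1 : ∑ y : Subgroup.zpowers g, θ (y : G) * conj ((ψ' : Subgroup.zpowers g → ℂ) y)
        = ((p ^ blockDefect p B : ℕ) : ℂ) / (p : ℂ) *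
          ∑ y : Subgroup.zpowers g, (χ : G → ℂ) y * (ψ' : Subgroup.zpowers g → ℂ) y⁻¹ := by
      rw [Finset.mul_sum, hθdef]
      apply Finset.sum_congr rfl
      intro y _
      show (_ * pRegularPart p (χ : G → ℂ) (y : G)) * _ = _
      rw [pRegularPart_of_reg (hyreg y), irr_inv]
      ring
    rw [h1, hDcard] at hm
    have hpd : ((p ^ blockDefect p B : ℕ) : ℂ) ≠ 0 := by
      exact_mod_cast (pow_pos hp.pos _).ne'
    have hA0 : (Nat.card (Subgroup.zpowers g) : ℂ) ≠ 0 := card_ne_zero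
    have h2 : ∑ y : Subgroup.zpowers g, (χ : G → ℂ) y * (ψ' : Subgroup.zpowers g → ℂ) y⁻¹
        = (p : ℂ) * m * (Nat.card (Subgroup.zpowers g) : ℂ) := by
      have h3 : ((p ^ blockDefect p B : ℕ) : ℂ) *
          ∑ y : Subgroup.zpowers g, (χ : G → ℂ) y * (ψ' : Subgroup.zpowers g → ℂ) y⁻¹
          = ((p ^ blockDefect p B : ℕ) : ℂ) *
            ((p : ℂ) * m * (Nat.card (Subgroup.zpowers g) : ℂ)) := by
        have h4 : (p : ℂ) * (((p ^ blockDefect p B : ℕ) : ℂ) / (p : ℂ) *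
            ∑ y : Subgroup.zpowers g, (χ : G → ℂ) y * (ψ' : Subgroup.zpowers g → ℂ) y⁻¹)
            = (p : ℂ) * ((m : ℂ) * ((p ^ blockDefect p B : ℕ) : ℂ) *
              (Nat.card (Subgroup.zpowers g) : ℂ)) := by rw [hm]
        rw [← mul_assoc, mul_div_cancel₀ _ hp0] at h4
        rw [h4]
        ring
      exact mul_left_cancel₀ hpd h3
    unfold bil
    rw [h2]
    field_simp
  have hχg : (χ : G → ℂ) g = ∑ ψ' : IrrCharacter (Subgroup.zpowers g),
      bil (fun y : Subgroup.zpowers g => (χ : G → ℂ) y) (ψ' : Subgroup.zpowers g → ℂ) *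
        (ψ' : Subgroup.zpowers g → ℂ) ⟨g, Subgroup.mem_zpowers g⟩ :=
    classFun_apply_eq_sum_irr (fun y : Subgroup.zpowers g => (χ : G → ℂ) y)
      (fun y x => by
        show (χ : G → ℂ) ((x * y * x⁻¹ : Subgroup.zpowers g) : G) = (χ : G → ℂ) y
        push_cast
        exact irr_conj χ _ _) ⟨g, Subgroup.mem_zpowers g⟩
  have hli : MemLocalIdeal M ((χ : G → ℂ) g) := by
    rw [hχg]
    apply li_sum hM
    intro ψ' _
    obtain ⟨m, hm⟩ := hA ψ'
    rw [hm]
    exact li_mul_lr hM (li_mul_lr hM (li_prime hM) (lr_intCast hM m))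
      (lr_of_isIntegral hM (irr_isIntegral ψ' _))
  exact Helper7.not_li_char_of_height_zero hM hB hg hχ h0 hli

/-- The Brauer–Feit lemma: for `χ` of height zero in a block `B` of defect `d` and `ψ ∈ B`,
`p ^ d * gram χ ψ` is `p ^ height(ψ)` times an integer prime to `p`. -/
theorem gram_height [Fintype G] [Fact p.Prime] (hM : IsPModular p M)
    {B : Set (IrrCharacter G)} (hB : IsPBlock M B) {χ : IrrCharacter G} (hχ : χ ∈ B)
    (h0 : blockHeight p B (χ : G → ℂ) = 0) {ψ : IrrCharacter G} (hψ : ψ ∈ B) :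
    ∃ s : ℤ, ¬ (p : ℤ) ∣ s ∧
      ((p ^ blockDefect p B : ℕ) : ℂ) * gram p (χ : G → ℂ) (ψ : G → ℂ)
        = ((p ^ blockHeight p B (ψ : G → ℂ) : ℕ) : ℂ) * s := by
  have hp := hM.1
  obtain ⟨t, ht⟩ := gram_defect_int hM B hχ χ
  have htnd := gram_self_not_dvd hM hB hχ h0 t ht
  obtain ⟨k, hk⟩ := gram_defect_int hM B hχ ψ
  obtain ⟨r, hr, hrn, hrw⟩ := ratio_eq hM hψ
  obtain ⟨r', hr', hrn', hrw'⟩ := ratio_eq hM hχ
  have h1 := li_gram_ratio (p := p) hM χ (sameBlock_of_mem hM hB hψ hχ)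
  rw [hrw, hrw', hk, ht, h0, pow_zero, Nat.cast_one, div_one] at h1
  have hph : ((p ^ blockHeight p B (ψ : G → ℂ) : ℕ) : ℂ) ≠ 0 := by
    exact_mod_cast (pow_pos hp.pos _).ne'
  have hr0 : r ≠ 0 := ne_zero_of_not_li hM hrn
  have h2 : MemLocalRing M (r * (k : ℂ) / ((p ^ blockHeight p B (ψ : G → ℂ) : ℕ) : ℂ)) := by
    have := lr_add hM (li_lr h1) (lr_mul hM hr' (lr_intCast hM t))
    rwa [sub_add_cancel] at this
  have h3 : MemLocalRing M ((k : ℂ) / ((p ^ blockHeight p B (ψ : G → ℂ) : ℕ) : ℂ)) := by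
    have h := lr_mul hM (lr_inv_of_not_li hr hrn) h2
    have e : r⁻¹ * (r * (k : ℂ) / ((p ^ blockHeight p B (ψ : G → ℂ) : ℕ) : ℂ))
        = (k : ℂ) / ((p ^ blockHeight p B (ψ : G → ℂ) : ℕ) : ℂ) := by
      field_simp
    rwa [e] at h
  have h4 : ((p ^ blockHeight p B (ψ : G → ℂ) : ℕ) : ℤ) ∣ k := by
    apply int_dvd_of_lr_div hM
    have e : ((p ^ blockHeight p B (ψ : G → ℂ) : ℕ) : ℂ)
        = (p : ℂ) ^ blockHeight p B (ψ : G → ℂ) := by push_cast; rfl
    rw [← e]
    exact h3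
  obtain ⟨s, hs⟩ := h4
  refine ⟨s, ?_, by rw [hk, hs]; push_cast; ring⟩
  intro hsd
  have h5 : MemLocalIdeal M (r * (k : ℂ) / ((p ^ blockHeight p B (ψ : G → ℂ) : ℕ) : ℂ)) := by
    have e : r * (k : ℂ) / ((p ^ blockHeight p B (ψ : G → ℂ) : ℕ) : ℂ) = r * (s : ℂ) := by
      rw [hs]
      have hp0 : (p : ℂ) ≠ 0 := by exact_mod_cast hp.ne_zero
      have hpp : (p : ℂ) ^ blockHeight p B (ψ : G → ℂ) ≠ 0 := pow_ne_zero _ hp0
      push_cast
      field_simp
    rw [e]
    exact lr_mul_li hM hr ((li_intCast_iff hM s).mpr hsd)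
  have h6 : MemLocalIdeal M (r' * (t : ℂ)) := by
    have := li_sub hM h5 h1
    rwa [sub_sub_cancel] at this
  have h7 : MemLocalIdeal M (t : ℂ) := li_of_mul_left hM hr' hrn' h6
  exact htnd ((li_intCast_iff hM t).mp h7)

end Cfsg.Agent.Helper25
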