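import Mathlib
import Cfsg.Agent.Helper25.BlockPrincipal
import Cfsg.Agent.Helper7.BlockKer
import Cfsg.Agent.S0072

/-!
# Shared block-theory library (helper25), part 12: rank one and normal `p`-complements

* `blockRank_eq_one_iff`: a set of irreducible characters has rank one iff the `p`-regular parts
  of its members are all proportional to that of a fixed member.
* `hasNormalPComplement_iff_blockRank_principal`: `G` has a normal `p`-complement iff its
  principal block has rank one.
-/

set_option autoImplicit false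

namespace Cfsg.Agent.Helper25

open Cfsg

universe u

variable {G : Type u} [Group G] {p : ℕ} {M : Ideal AlgInt}

theorem pRegularPart_one_ne_zero (hp : p.Prime) (χ : IrrCharacter G) :
    pRegularPart p (χ : G → ℂ) ≠ 0 := by
  intro h
  have h1 : pRegularPart p (χ : G → ℂ) 1 = (χ : G → ℂ) 1 := by
    apply pRegularPart_of_reg
    rw [orderOf_one]
    exact hp.one_lt.ne' ∘ Nat.dvd_one.mp
  rw [h] at h1
  exact irr_one_ne_zero χ h1.symm

/-- Rank one means: all `p`-regular parts are proportional to a fixed one. -/
theorem blockRank_eq_one_iff [Finite G] (hp : p.Prime) (B : Set (IrrCharacter G))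
    {χ₀ : IrrCharacter G} (hχ₀ : χ₀ ∈ B) :
    blockRank p B = 1 ↔ ∀ χ ∈ B, ∃ c : ℂ,
      pRegularPart p (χ : G → ℂ) = c • pRegularPart p (χ₀ : G → ℂ) := by
  have hv₀ := pRegularPart_one_ne_zero hp χ₀
  have hle : Submodule.span ℂ {pRegularPart p (χ₀ : G → ℂ)} ≤
      Submodule.span ℂ ((fun χ : IrrCharacter G => pRegularPart p (χ : G → ℂ)) '' B) :=
    Submodule.span_mono (Set.singleton_subset_iff.mpr ⟨χ₀, hχ₀, rfl⟩)
  unfold blockRank
  constructor
  · intro h χ hχ
    have heq : Submodule.span ℂ {pRegularPart p (χ₀ : G → ℂ)} =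
        Submodule.span ℂ ((fun χ : IrrCharacter G => pRegularPart p (χ : G → ℂ)) '' B) := by
      apply Submodule.eq_of_le_of_finrank_eq hle
      rw [h, finrank_span_singleton hv₀]
    have hmem : pRegularPart p (χ : G → ℂ) ∈ Submodule.span ℂ {pRegularPart p (χ₀ : G → ℂ)} := by
      rw [heq]
      exact Submodule.subset_span ⟨χ, hχ, rfl⟩
    obtain ⟨c, hc⟩ := Submodule.mem_span_singleton.mp hmem
    exact ⟨c, hc.symm⟩
  · intro h
    have heq : Submodule.span ℂ ((fun χ : IrrCharacter G => pRegularPart p (χ : G → ℂ)) '' B) =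
        Submodule.span ℂ {pRegularPart p (χ₀ : G → ℂ)} := by
      apply le_antisymm _ hle
      rw [Submodule.span_le]
      rintro _ ⟨χ, hχ, rfl⟩
      obtain ⟨c, hc⟩ := h χ hχ
      show pRegularPart p (χ : G → ℂ) ∈ Submodule.span ℂ {pRegularPart p (χ₀ : G → ℂ)}
      rw [hc]
      exact Submodule.smul_mem _ c (Submodule.mem_span_singleton_self _)
    rw [heq, finrank_span_singleton hv₀]

/-- The principal block has rank one iff every member is constant on `p`-regular elements. -/
theorem blockRank_principal_eq_one_iff [Finite G] (hM : IsPModular p M) :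
    blockRank p (principalBlock M G) = 1 ↔
      ∀ χ ∈ principalBlock M G, ∀ x : G, ¬ p ∣ orderOf x → (χ : G → ℂ) x = (χ : G → ℂ) 1 := by
  have hp := hM.1
  have h1reg : ¬ p ∣ orderOf (1 : G) := by
    rw [orderOf_one]
    exact hp.one_lt.ne' ∘ Nat.dvd_one.mp
  rw [blockRank_eq_one_iff hp _ (trivChar_mem_principalBlock hM)]
  constructor
  · intro h χ hχ x hx
    obtain ⟨c, hc⟩ := h χ hχ
    have h1 := congrFun hc 1
    have h2 := congrFun hc x
    simp only [Pi.smul_apply, smul_eq_mul] at h1 h2
    rw [pRegularPart_of_reg h1reg, pRegularPart_of_reg h1reg, trivChar_apply, mul_one] at h1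
    rw [pRegularPart_of_reg hx, pRegularPart_of_reg hx, trivChar_apply, mul_one] at h2
    rw [h1, h2]
  · intro h χ hχ
    refine ⟨(χ : G → ℂ) 1, ?_⟩
    funext x
    simp only [Pi.smul_apply, smul_eq_mul]
    by_cases hx : p ∣ orderOf x
    · rw [pRegularPart_of_sing hx, pRegularPart_of_sing hx, mul_zero]
    · rw [pRegularPart_of_reg hx, pRegularPart_of_reg hx, trivChar_apply, mul_one, h χ hχ x hx]

/-- `G` has a normal `p`-complement iff its principal block has rank one. -/
theorem hasNormalPComplement_iff_blockRank_principal [Finite G] [Fact p.Prime]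
    (hM : IsPModular p M) :
    HasNormalPComplement p G ↔ blockRank p (principalBlock M G) = 1 := by
  classical
  have hp := hM.1
  rw [Cfsg.Agent.S0072.npc_iff, blockRank_principal_eq_one_iff hM]
  constructor
  · rintro ⟨N, hN, hcop, k, hk⟩ χ hχ x hx
    have hNp : ¬ p ∣ Nat.card N := fun h => by
      have := Nat.Coprime.eq_one_of_dvd hcop.symm h
      exact hp.one_lt.ne' this
    have hle := le_irrKer_of_mem_principalBlock hM N hNp χ hχ
    have hxN : x ∈ N := by
      have h1 : orderOf (QuotientGroup.mk' N x) ∣ orderOf x := orderOf_map_dvd _ x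
      have h2 : orderOf (QuotientGroup.mk' N x) ∣ p ^ k := by
        rw [← hk]
        exact orderOf_dvd_natCard _
      have h3 : (orderOf x).Coprime (p ^ k) :=
        Nat.Coprime.pow_right _ ((Nat.Prime.coprime_iff_not_dvd hp).mpr hx).symm
      have h4 : orderOf (QuotientGroup.mk' N x) = 1 :=
        Nat.eq_one_of_dvd_coprimes h3 h1 h2
      rw [orderOf_eq_one_iff] at h4
      exact (QuotientGroup.eq_one_iff x).mp h4
    exact (mem_irrKer χ x).mp (hle hxN)
  · intro h
    have hB : IsPBlock M (principalBlock M G) := isPBlock_principalBlock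
    refine ⟨Helper7.blockKerSubgroup (principalBlock M G), Helper7.blockKerSubgroup_normal _,
      ?_, ?_⟩
    · exact ((Nat.Prime.coprime_iff_not_dvd hp).mpr (Helper7.blockKerSubgroup_card hM hB)).symm
    · haveI := Helper7.blockKerSubgroup_normal (principalBlock M G)
      have hpg : IsPGroup p (G ⧸ Helper7.blockKerSubgroup (principalBlock M G)) := by
        intro y
        obtain ⟨g, rfl⟩ := QuotientGroup.mk_surjective y
        refine ⟨(orderOf g).factorization p, ?_⟩
        have hg0 : orderOf g ≠ 0 := (orderOf_pos g).ne'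
        have hreg : ¬ p ∣ orderOf (g ^ p ^ (orderOf g).factorization p) := by
          rw [orderOf_pow, Nat.gcd_eq_right (Nat.ordProj_dvd _ _)]
          exact Nat.not_dvd_ordCompl hp hg0
        have hmem : g ^ p ^ (orderOf g).factorization p ∈
            Helper7.blockKerSubgroup (principalBlock M G) := fun ψ hψ => h ψ hψ _ hreg
        rw [← QuotientGroup.mk_pow]
        exact (QuotientGroup.eq_one_iff _).mpr hmem
      obtain ⟨n, hn⟩ := hpg.exists_card_eq
      exact ⟨n, hn⟩

end Cfsg.Agent.Helper25
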