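import Mathlib
import Cfsg.Agent.Helper25.CharKer
import Cfsg.Agent.Helper1.CharBurnside
import Cfsg.Agent.S0138

/-!
# Shared character-theory library (helper25), part 8: centre of a faithful character

For a faithful irreducible character `χ`: `‖χ g‖ = ‖χ 1‖` forces `g` central, and Burnside's
coprimality lemma gives `χ g = 0` for non-central `g` whose class size is coprime to `χ 1`.
-/

set_option autoImplicit false

namespace Cfsg.Agent.Helper25

open Cfsg

universe u

variable {G : Type u} [Group G]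

/-- A faithful irreducible character attains the absolute value `χ 1` only on the centre. -/
theorem irr_mem_center_of_norm_eq [Finite G] (χ : IrrCharacter G)
    (hfaith : ∀ g : G, (χ : G → ℂ) g = (χ : G → ℂ) 1 → g = 1) (g : G)
    (h : ‖(χ : G → ℂ) g‖ = (charDegree (χ : G → ℂ) : ℝ)) : g ∈ Subgroup.center G := by
  obtain ⟨n, ρ, hρ, hχ, hker⟩ := irr_rep_ker χ
  have hn : charDegree (χ : G → ℂ) = n := by
    rw [← hχ]
    exact rep_charDegree ρ
  have h1 : ‖ρ.character g‖ = (Module.finrank ℂ (Fin n → ℂ) : ℝ) := by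
    rw [hχ, h, hn]
    simp
  obtain ⟨ω, hω⟩ := (Cfsg.Agent.S0138.result ρ g).mp h1
  rw [Subgroup.mem_center_iff]
  intro x
  have h2 : ρ g * ρ x = ρ x * ρ g := by
    rw [hω]
    ext v
    simp
  have h3 : ρ (g * x * g⁻¹ * x⁻¹) = 1 := by
    calc ρ (g * x * g⁻¹ * x⁻¹) = ρ g * ρ x * ρ g⁻¹ * ρ x⁻¹ := by simp only [map_mul]
      _ = ρ x * ρ g * ρ g⁻¹ * ρ x⁻¹ := by rw [h2]
      _ = ρ (x * g * g⁻¹ * x⁻¹) := by simp only [map_mul]
      _ = 1 := by simp
  have h4 := hfaith _ ((hker _).mpr h3)
  have h5 : g * x = x * g := by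
    have := congrArg (fun y => y * x * g) h4
    simpa [mul_assoc] using this
  exact h5.symm

/-- Burnside: a faithful irreducible character vanishes at non-central elements whose class size
is coprime to the degree. -/
theorem irr_eq_zero_of_coprime [Finite G] (χ : IrrCharacter G)
    (hfaith : ∀ g : G, (χ : G → ℂ) g = (χ : G → ℂ) 1 → g = 1) (g : G)
    (hg : g ∉ Subgroup.center G)
    (hcop : Nat.Coprime (charDegree (χ : G → ℂ)) (Subgroup.centralizer ({g} : Set G)).index) :
    (χ : G → ℂ) g = 0 := by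
  have := Fintype.ofFinite G
  obtain ⟨n, ρ, hρ, hχ⟩ := χ.2
  have hn : charDegree (χ : G → ℂ) = n := by
    rw [← hχ]
    exact rep_charDegree ρ
  have := hρ
  have hcop' : Nat.Coprime (Module.finrank ℂ (Fin n → ℂ))
      (Subgroup.centralizer ({g} : Set G)).index := by
    rw [hn] at hcop
    simpa using hcop
  rcases Cfsg.Agent.Helper1.char_eq_zero_or_norm_eq_of_coprime ρ g hcop' with h0 | hnorm
  · rw [← hχ]
    exact h0
  · exfalso
    apply hg
    apply irr_mem_center_of_norm_eq χ hfaith g
    rw [← hχ, hnorm, hχ, hn]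
    simp

end Cfsg.Agent.Helper25
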