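import Mathlib
import Cfsg.Agent.Helper25.CharZ
import Cfsg.Agent.Helper25.CharOrth
import Cfsg.Agent.Helper7.DetChar
import Cfsg.Agent.Helper24.Ito
import Cfsg.Agent.Helper24.InvConst
import Cfsg.Agent.Helper2.Artin
import Cfsg.Agent.Helper2.Ind
import Cfsg.Agent.Helper11.AbelChar
import Cfsg.Agent.Helper1.CharComplete
import Cfsg.Agent.Lead.Quat

/-!
# p-groups whose equal-degree nonlinear characters are Galois conjugate (helper25)

Lemmas for S4845.  The condition `gqCond G` says that any two irreducible characters of the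
same degree `≠ 1` are related by a power map `g ↦ g ^ k` with `k` prime to `|G|`.
-/

set_option autoImplicit false
open Cfsg
open scoped commutatorElement

namespace Cfsg.Agent.Helper25

universe u
variable {G : Type u} [Group G]

/-- the Galois-conjugacy condition on equal-degree nonlinear characters -/
def gqCond (G : Type u) [Group G] : Prop :=
  ∀ χ ψ : IrrCharacter G, charDegree (χ : G → ℂ) ≠ 1 →
    charDegree (χ : G → ℂ) = charDegree (ψ : G → ℂ) →
    ∃ k : ℕ, Nat.Coprime k (Nat.card G) ∧ ∀ g : G, (ψ : G → ℂ) g = (χ : G → ℂ) (g ^ k)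

/-- A central element acts on an irreducible character through a scalar of norm one. -/
theorem gq_central_mul [Finite G] (χ : IrrCharacter G) (z : G) (hz : z ∈ Subgroup.center G) :
    ∃ c : ℂ, ‖c‖ = 1 ∧ ∀ g : G, (χ : G → ℂ) (z * g) = c * (χ : G → ℂ) g := by
  obtain ⟨n, ρ, hρ, hχ⟩ := χ.2
  haveI := hρ
  have hcomm : ∀ g, ρ z ∘ₗ ρ g = ρ g ∘ₗ ρ z := by
    intro g
    rw [← Module.End.mul_eq_comp, ← Module.End.mul_eq_comp, ← map_mul, ← map_mul,
      (Subgroup.mem_center_iff.mp hz g)]
  obtain ⟨c, hc⟩ := Helper1.exists_scalar_of_commute ρ (ρ z) hcomm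
  have hmul : ∀ g : G, (χ : G → ℂ) (z * g) = c * (χ : G → ℂ) g := by
    intro g
    rw [← hχ]
    simp only [Representation.character, map_mul, hc]
    rw [Module.End.mul_eq_comp, LinearMap.smul_comp, LinearMap.id_comp, map_smul, smul_eq_mul]
  refine ⟨c, ?_, hmul⟩
  have hpow : ∀ k : ℕ, (χ : G → ℂ) (z ^ k) = c ^ k * (χ : G → ℂ) 1 := by
    intro k
    induction k with
    | zero => simp
    | succ k ih =>
      rw [pow_succ', hmul, ih, pow_succ']
      ring
  have h1 := hpow (orderOf z)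
  rw [pow_orderOf_eq_one] at h1
  have hc1 : c ^ orderOf z = 1 := by
    have h0 := irr_one_ne_zero χ
    have : (c ^ orderOf z - 1) * (χ : G → ℂ) 1 = 0 := by
      rw [sub_mul, one_mul, ← h1, sub_self]
    rcases mul_eq_zero.mp this with h | h
    · exact sub_eq_zero.mp h
    · exact absurd h h0
  exact Complex.norm_eq_one_of_pow_eq_one hc1 (orderOf_pos z).ne'

/-- `∑ ‖χ g‖² = |G|`. -/
theorem gq_sum_norm_sq [Fintype G] (χ : IrrCharacter G) :
    ∑ g : G, ‖(χ : G → ℂ) g‖ ^ 2 = (Nat.card G : ℝ) := by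
  have h1 := irr_bil χ χ
  rw [if_pos rfl] at h1
  unfold bil at h1
  have hG0 : (Nat.card G : ℂ) ≠ 0 := card_ne_zero
  have h2 : ∑ g : G, (χ : G → ℂ) g * (χ : G → ℂ) g⁻¹ = (Nat.card G : ℂ) := by
    field_simp at h1
    rw [h1]
  simp only [irr_mul_inv_eq_norm_sq] at h2
  rw [← Complex.ofReal_sum] at h2
  exact_mod_cast h2

/-- norm of the value of an irreducible character at a central element -/
theorem gq_norm_central [Finite G] (χ : IrrCharacter G) (z : G) (hz : z ∈ Subgroup.center G) :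
    ‖(χ : G → ℂ) z‖ = (charDegree (χ : G → ℂ) : ℝ) := by
  obtain ⟨c, hc1, hc⟩ := gq_central_mul χ z hz
  have h := hc 1
  rw [mul_one] at h
  rw [h, norm_mul, hc1, one_mul, irr_one_eq_degree]
  simp

/-- In a group of class at most two a faithful irreducible character vanishes off the centre. -/
theorem gq_vanish [Finite G] (hcl : ∀ a b : G, a * b * a⁻¹ * b⁻¹ ∈ Subgroup.center G)
    (χ : IrrCharacter G) (hf : ∀ g : G, (χ : G → ℂ) g = (χ : G → ℂ) 1 → g = 1)
    (g : G) (hg : g ∉ Subgroup.center G) : (χ : G → ℂ) g = 0 := by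
  rw [Subgroup.mem_center_iff, not_forall] at hg
  obtain ⟨y, hy⟩ := hg
  obtain ⟨ω, -, hω⟩ := gq_central_mul χ (y * g * y⁻¹ * g⁻¹) (hcl y g)
  have h1 : y * g * y⁻¹ * g⁻¹ * g = y * g * y⁻¹ := by group
  have h2 : (χ : G → ℂ) (y * g * y⁻¹ * g⁻¹ * g) = (χ : G → ℂ) g := by
    rw [h1]
    exact irr_conj χ g y
  rw [hω g] at h2
  by_contra h0
  have hω' : ω = 1 := by
    have : (ω - 1) * (χ : G → ℂ) g = 0 := by rw [sub_mul, one_mul, h2, sub_self]
    rcases mul_eq_zero.mp this with h | h
    · exact sub_eq_zero.mp h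
    · exact absurd h h0
  have h3 := hω 1
  rw [mul_one, hω', one_mul] at h3
  have h4 := hf _ h3
  apply hy
  calc y * g = (y * g * y⁻¹ * g⁻¹) * (g * y) := by group
    _ = g * y := by rw [h4, one_mul]

/-- In a group of class at most two a faithful irreducible character has
`χ(1)² = |G : Z(G)|`. -/
theorem gq_deg_sq [Finite G] (hcl : ∀ a b : G, a * b * a⁻¹ * b⁻¹ ∈ Subgroup.center G)
    (χ : IrrCharacter G) (hf : ∀ g : G, (χ : G → ℂ) g = (χ : G → ℂ) 1 → g = 1) :
    charDegree (χ : G → ℂ) ^ 2 = (Subgroup.center G).index := by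
  classical
  haveI := Fintype.ofFinite G
  have h1 := gq_sum_norm_sq χ
  have h2 : ∑ g : G, ‖(χ : G → ℂ) g‖ ^ 2 =
      ∑ g : G, if g ∈ Subgroup.center G then (charDegree (χ : G → ℂ) : ℝ) ^ 2 else 0 := by
    apply Finset.sum_congr rfl
    intro g _
    split_ifs with h
    · rw [gq_norm_central χ g h]
    · rw [gq_vanish hcl χ hf g h]
      simp
  rw [h2, Finset.sum_ite, Finset.sum_const_zero, add_zero, Finset.sum_const, nsmul_eq_mul] at h1
  have h3 : (Finset.univ.filter (fun g : G => g ∈ Subgroup.center G)).card =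
      Nat.card (Subgroup.center G) := by
    rw [Nat.card_eq_fintype_card, Fintype.card_subtype]
  rw [h3] at h1
  have h4 : Nat.card (Subgroup.center G) * charDegree (χ : G → ℂ) ^ 2 = Nat.card G := by
    exact_mod_cast h1
  have h5 := Subgroup.card_mul_index (Subgroup.center G)
  rw [← h5] at h4
  exact Nat.eq_of_mul_eq_mul_left Nat.card_pos h4

/-- the central character of an irreducible character, as a homomorphism on the centre -/
noncomputable def gqHom [Finite G] (χ : IrrCharacter G) : Subgroup.center G →* ℂ where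
  toFun := fun z => (χ : G → ℂ) z / (χ : G → ℂ) 1
  map_one' := by
    show (χ : G → ℂ) ((1 : Subgroup.center G) : G) / (χ : G → ℂ) 1 = 1
    rw [Subgroup.coe_one]
    exact div_self (irr_one_ne_zero χ)
  map_mul' := by
    intro z z'
    have h0 := irr_one_ne_zero χ
    obtain ⟨c, -, hc⟩ := gq_central_mul χ z z.2
    have h1 := hc 1
    rw [mul_one] at h1
    show (χ : G → ℂ) ((z * z' : Subgroup.center G) : G) / (χ : G → ℂ) 1 =
      (χ : G → ℂ) z / (χ : G → ℂ) 1 * ((χ : G → ℂ) z' / (χ : G → ℂ) 1)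
    rw [Subgroup.coe_mul, hc, h1]
    field_simp

theorem gqHom_apply [Finite G] (χ : IrrCharacter G) (z : Subgroup.center G) :
    gqHom χ z = (χ : G → ℂ) z / (χ : G → ℂ) 1 := rfl

theorem gqHom_mul_one [Finite G] (χ : IrrCharacter G) (z : Subgroup.center G) :
    gqHom χ z * (χ : G → ℂ) 1 = (χ : G → ℂ) z := by
  rw [gqHom_apply, div_mul_cancel₀ _ (irr_one_ne_zero χ)]

theorem gqHom_injective [Finite G] (χ : IrrCharacter G)
    (hf : ∀ g : G, (χ : G → ℂ) g = (χ : G → ℂ) 1 → g = 1) : Function.Injective (gqHom χ) := by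
  have h0 := irr_one_ne_zero χ
  intro z z' h
  have h1 : gqHom χ (z⁻¹ * z') * gqHom χ z = gqHom χ z := by
    have e : z⁻¹ * z' * z = z' := by
      apply Subtype.ext
      show (z : G)⁻¹ * (z' : G) * (z : G) = (z' : G)
      have := Subgroup.mem_center_iff.mp z'.2 (z : G)
      rw [mul_assoc, ← this, inv_mul_cancel_left]
    rw [← map_mul, e, h]
  have hz : gqHom χ z ≠ 0 := by
    intro hz0
    have h2 : gqHom χ z * gqHom χ z⁻¹ = 1 := by rw [← map_mul, mul_inv_cancel, map_one]
    rw [hz0, zero_mul] at h2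
    exact zero_ne_one h2
  have h2 : gqHom χ (z⁻¹ * z') = 1 := by
    have : (gqHom χ (z⁻¹ * z') - 1) * gqHom χ z = 0 := by rw [sub_mul, one_mul, h1, sub_self]
    rcases mul_eq_zero.mp this with h | h
    · exact sub_eq_zero.mp h
    · exact absurd h hz
  have h3 : (χ : G → ℂ) ((z⁻¹ * z' : Subgroup.center G) : G) = (χ : G → ℂ) 1 := by
    have : (χ : G → ℂ) ((z⁻¹ * z' : Subgroup.center G) : G) / (χ : G → ℂ) 1 = 1 := h2
    rwa [div_eq_one_iff_eq h0] at this
  have h4 := hf _ h3
  have h5 : z⁻¹ * z' = 1 := Subtype.ext h4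
  exact (inv_mul_eq_one.mp h5)

/-- A group with a faithful irreducible character has cyclic centre. -/
theorem gq_center_cyclic [Finite G] (χ : IrrCharacter G)
    (hf : ∀ g : G, (χ : G → ℂ) g = (χ : G → ℂ) 1 → g = 1) : IsCyclic (Subgroup.center G) :=
  isCyclic_of_injective_ringHom (gqHom χ) (gqHom_injective χ hf)

/-- Step 1: under the Galois condition the kernel of a nonlinear irreducible character lies in
the derived subgroup. -/
theorem gq_ker_le [Finite G] (hGC : gqCond G) (χ : IrrCharacter G)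
    (hχ : charDegree (χ : G → ℂ) ≠ 1) (g : G) (hg : (χ : G → ℂ) g = (χ : G → ℂ) 1) :
    g ∈ commutator G := by
  by_contra hgc
  have ha : (Abelianization.of g : Abelianization G) ≠ 1 := by
    intro h
    apply hgc
    rwa [← MonoidHom.mem_ker, Abelianization.ker_of] at h
  obtain ⟨φ, hφ⟩ := CommGroup.exists_apply_ne_one_of_hasEnoughRootsOfUnity (Abelianization G) ℂ ha
  let β : G →* ℂˣ := φ.comp Abelianization.of
  let ψ : IrrCharacter G := ⟨fun x => ((β x : ℂˣ) : ℂ) * (χ : G → ℂ) x,
    Helper7.isIrrCharacter_hom_mul β (χ : G → ℂ) χ.2⟩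
  have hdeg : charDegree (χ : G → ℂ) = charDegree (ψ : G → ℂ) := by
    have h1 : (ψ : G → ℂ) 1 = (χ : G → ℂ) 1 := by
      show ((β 1 : ℂˣ) : ℂ) * (χ : G → ℂ) 1 = (χ : G → ℂ) 1
      rw [map_one, Units.val_one, one_mul]
    rw [irr_one_eq_degree, irr_one_eq_degree] at h1
    exact_mod_cast h1.symm
  obtain ⟨k, -, hk⟩ := hGC χ ψ hχ hdeg
  have h1 := hk g
  have h2 : (χ : G → ℂ) (g ^ k) = (χ : G → ℂ) 1 :=
    (mem_irrKer χ _).mp (Subgroup.pow_mem _ ((mem_irrKer χ g).mpr hg) k)
  rw [h2] at h1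
  have h3 : ((β g : ℂˣ) : ℂ) * (χ : G → ℂ) 1 = (χ : G → ℂ) 1 := by
    have h1' : ((β g : ℂˣ) : ℂ) * (χ : G → ℂ) g = (χ : G → ℂ) 1 := h1
    rw [hg] at h1'
    exact h1'
  have h4 : ((β g : ℂˣ) : ℂ) = 1 := by
    have : (((β g : ℂˣ) : ℂ) - 1) * (χ : G → ℂ) 1 = 0 := by rw [sub_mul, one_mul, h3, sub_self]
    rcases mul_eq_zero.mp this with h | h
    · exact sub_eq_zero.mp h
    · exact absurd h (irr_one_ne_zero χ)
  apply hφ
  exact Units.ext h4

/-- The Galois condition passes to quotients. -/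
theorem gq_quot [Finite G] (hGC : gqCond G) (N : Subgroup G) [N.Normal] : gqCond (G ⧸ N) := by
  intro χ ψ hχ hdeg
  have hs := QuotientGroup.mk'_surjective N
  obtain ⟨k, hk, h⟩ := hGC (irrComp χ (QuotientGroup.mk' N) hs) (irrComp ψ (QuotientGroup.mk' N) hs)
    (by rw [charDegree_irrComp]; exact hχ)
    (by rw [charDegree_irrComp, charDegree_irrComp]; exact hdeg)
  refine ⟨k, Nat.Coprime.coprime_dvd_right (Subgroup.card_quotient_dvd_card N) hk, ?_⟩
  intro q
  obtain ⟨g, rfl⟩ := hs q
  have h1 := h g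
  simp only [irrComp_apply] at h1
  rw [h1, map_pow]

/-- A noncommutative finite group has a nonlinear irreducible character. -/
theorem gq_exists_nonlinear [Finite G] (h : ¬ ∀ a b : G, a * b = b * a) :
    ∃ χ : IrrCharacter G, charDegree (χ : G → ℂ) ≠ 1 := by
  by_contra hno
  rw [not_exists] at hno
  exact h (Helper24.comm_of_all_linear (fun χ => not_not.mp (hno χ)))

/-- the image of a central element in a quotient is central -/
theorem gq_mk_center (N : Subgroup G) [N.Normal] {z : G} (hz : z ∈ Subgroup.center G) :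
    (QuotientGroup.mk z : G ⧸ N) ∈ Subgroup.center (G ⧸ N) := by
  rw [Subgroup.mem_center_iff]
  intro q
  induction q using QuotientGroup.induction_on with
  | H g =>
    rw [← QuotientGroup.mk_mul, ← QuotientGroup.mk_mul, Subgroup.mem_center_iff.mp hz g]

/-- the image of an element of the derived subgroup lies in the derived subgroup -/
theorem gq_mk_comm (N : Subgroup G) [N.Normal] {c : G} (hc : c ∈ commutator G) :
    (QuotientGroup.mk c : G ⧸ N) ∈ commutator (G ⧸ N) := by
  have hle : commutator G ≤ (commutator (G ⧸ N)).comap (QuotientGroup.mk' N) := by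
    rw [commutator_eq_closure, Subgroup.closure_le]
    rintro _ ⟨a, b, rfl⟩
    rw [SetLike.mem_coe, Subgroup.mem_comap, map_commutatorElement, commutator_def]
    exact Subgroup.commutator_mem_commutator (Subgroup.mem_top _) (Subgroup.mem_top _)
  exact hle hc

/-- commutators lie in the derived subgroup -/
theorem gq_comm_mem (a b : G) : a * b * a⁻¹ * b⁻¹ ∈ commutator G := by
  rw [commutator_eq_closure]
  exact Subgroup.subset_closure ⟨a, b, rfl⟩

/-- if the quotient is commutative then the derived subgroup lies in the kernel -/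
theorem gq_comm_le_of_quot (N : Subgroup G) [N.Normal] (hc : ∀ a b : G ⧸ N, a * b = b * a) :
    commutator G ≤ N := by
  rw [commutator_eq_closure, Subgroup.closure_le]
  rintro _ ⟨a, b, rfl⟩
  rw [SetLike.mem_coe, ← QuotientGroup.eq_one_iff, commutatorElement_def]
  simp only [QuotientGroup.mk_mul, QuotientGroup.mk_inv]
  rw [hc (a : G ⧸ N) b]
  group

/-- Comparability: a normal subgroup not containing the derived subgroup lies inside it. -/
theorem gq_comparable [Finite G] (hGC : gqCond G) (N : Subgroup G) [N.Normal]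
    (hN : ¬ commutator G ≤ N) : N ≤ commutator G := by
  have hnc : ¬ ∀ a b : G ⧸ N, a * b = b * a := fun hc => hN (gq_comm_le_of_quot N hc)
  obtain ⟨χ, hχ⟩ := gq_exists_nonlinear hnc
  have hs := QuotientGroup.mk'_surjective N
  intro n hn
  apply gq_ker_le hGC (irrComp χ (QuotientGroup.mk' N) hs) (by rw [charDegree_irrComp]; exact hχ)
  rw [irrComp_apply, irrComp_apply, map_one]
  have h : (QuotientGroup.mk' N) n = 1 := (QuotientGroup.eq_one_iff n).mpr hn
  rw [h]

/-- An irreducible character whose kernel contains all commutators is linear. -/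
theorem gq_linear_of_comm_ker [Finite G] (μ : IrrCharacter G)
    (h : ∀ a b : G, (μ : G → ℂ) (a * b * a⁻¹ * b⁻¹) = (μ : G → ℂ) 1) :
    charDegree (μ : G → ℂ) = 1 := by
  have hle : commutator G ≤ irrKer μ := by
    rw [commutator_eq_closure, Subgroup.closure_le]
    rintro _ ⟨a, b, rfl⟩
    exact h a b
  obtain ⟨ψ, hψ⟩ := exists_deflate μ (commutator G) hle
  have hcomm : ∀ x y : G ⧸ commutator G, x * y = y * x := by
    intro x y
    exact mul_comm (G := Abelianization G) x y
  have h1 := Helper11.irr_one_of_comm hcomm ψ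
  have h2 : (μ : G → ℂ) 1 = 1 := by
    rw [← hψ 1]
    exact h1
  rw [irr_one_eq_degree] at h2
  exact_mod_cast h2

/-- in a subgroup of prime order every element is a power of any nontrivial element -/
theorem gq_prime_zpow (p : ℕ) [Fact p.Prime] (N : Subgroup G) (hN : Nat.card N = p)
    {b : G} (hb : b ∈ N) (hb1 : b ≠ 1) {n : G} (hn : n ∈ N) : ∃ k : ℤ, b ^ k = n := by
  have htop := zpowers_eq_top_of_prime_card hN (g := (⟨b, hb⟩ : N))
    (fun h => hb1 (by simpa using congrArg Subtype.val h))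
  have hmem : (⟨n, hn⟩ : N) ∈ Subgroup.zpowers (⟨b, hb⟩ : N) := by
    rw [htop]
    exact Subgroup.mem_top _
  obtain ⟨k, hk⟩ := Subgroup.mem_zpowers_iff.mp hmem
  refine ⟨k, ?_⟩
  have := congrArg Subtype.val hk
  simpa using this

/-- with derived subgroup of prime order, nonlinear irreducible characters are faithful -/
theorem gq_faithful [Finite G] (hGC : gqCond G) (p : ℕ) [Fact p.Prime]
    (hc : Nat.card (commutator G) = p) (χ : IrrCharacter G)
    (hχ : charDegree (χ : G → ℂ) ≠ 1) (g : G) (hg : (χ : G → ℂ) g = (χ : G → ℂ) 1) : g = 1 := by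
  by_contra hg1
  have hgc := gq_ker_le hGC χ hχ g hg
  apply hχ
  apply gq_linear_of_comm_ker
  intro a b
  obtain ⟨k, hk⟩ := gq_prime_zpow p (commutator G) hc hgc hg1 (gq_comm_mem a b)
  rw [← hk]
  exact (mem_irrKer χ _).mp (Subgroup.zpow_mem _ ((mem_irrKer χ g).mpr hg) k)

/-- a normal subgroup of prime order of a `p`-group is central -/
theorem gq_normal_p_central [Finite G] (p : ℕ) [Fact p.Prime] (hG : IsPGroup p G)
    (N : Subgroup G) [N.Normal] (hN : Nat.card N = p) : N ≤ Subgroup.center G := by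
  have hne : N ≠ ⊥ := by
    intro h
    rw [h, Subgroup.card_bot] at hN
    exact (Fact.out : p.Prime).one_lt.ne hN
  obtain ⟨b, hbN, hb1, hbZ⟩ := Lead.normal_inf_center_ne_bot' p hG N hne
  intro n hn
  obtain ⟨k, hk⟩ := gq_prime_zpow p N hN hbN hb1 hn
  rw [← hk]
  exact Subgroup.zpow_mem _ hbZ k

/-- elements of a subgroup of order `p` have trivial `p`-th power -/
theorem gq_pow_p (p : ℕ) (N : Subgroup G) (hN : Nat.card N = p) {n : G} (hn : n ∈ N) :
    n ^ p = 1 := by
  have h := pow_card_eq_one' (G := N) (x := ⟨n, hn⟩)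
  rw [hN] at h
  have := congrArg Subtype.val h
  simpa using this

/-- a group with derived subgroup of prime order is not commutative -/
theorem gq_not_comm (p : ℕ) (hp : p.Prime) (hc : Nat.card (commutator G) = p) :
    ¬ ∀ a b : G, a * b = b * a := by
  intro h
  have hbot : commutator G = ⊥ := by
    rw [eq_bot_iff, commutator_eq_closure, Subgroup.closure_le]
    rintro _ ⟨a, b, rfl⟩
    rw [SetLike.mem_coe, Subgroup.mem_bot, commutatorElement_def, h a b]
    group
  rw [hbot, Subgroup.card_bot] at hc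
  exact hp.one_lt.ne hc

/-- a nontrivial element is outside the kernel of some irreducible character -/
theorem gq_exists_not_ker [Finite G] (g : G) (hg : g ≠ 1) :
    ∃ χ : IrrCharacter G, (χ : G → ℂ) g ≠ (χ : G → ℂ) 1 := by
  classical
  haveI := Fintype.ofFinite G
  by_contra hno
  rw [not_exists] at hno
  have h1 := sum_irr_one_mul g
  rw [if_neg hg] at h1
  have h2 := sum_irr_degree_sq (G := G)
  rw [Finset.sum_congr rfl (fun χ _ => by rw [not_not.mp (hno χ)])] at h1
  rw [h1] at h2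
  exact card_ne_zero h2.symm

/-- `x² = p y²` is impossible -/
theorem gq_not_sq (p : ℕ) (hp : p.Prime) (x y : ℕ) (hy : y ≠ 0) (h : x ^ 2 = p * y ^ 2) :
    False := by
  have h1 := congrArg (fun n => n.factorization p) h
  simp only [Nat.factorization_pow, Nat.factorization_mul hp.ne_zero (pow_ne_zero 2 hy),
    Finsupp.smul_apply, Finsupp.add_apply, hp.factorization_self, smul_eq_mul] at h1
  omega

/-- parity of exponents -/
theorem gq_parity (p : ℕ) (hp : p.Prime) (a b C : ℕ) (ha : a ≠ 0) (hb : b ≠ 0)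
    (h1 : C = a ^ 2 ∨ C = p * a ^ 2) (h2 : C = b ^ 2 ∨ C = p * b ^ 2) : a = b := by
  rcases h1 with h1 | h1 <;> rcases h2 with h2 | h2
  · exact Nat.pow_left_injective (by norm_num : (2 : ℕ) ≠ 0) (h1.symm.trans h2)
  · exact (gq_not_sq p hp a b hb (h1.symm.trans h2)).elim
  · exact (gq_not_sq p hp b a ha (h2.symm.trans h1)).elim
  · exact Nat.pow_left_injective (by norm_num : (2 : ℕ) ≠ 0)
      (Nat.eq_of_mul_eq_mul_left hp.pos (h1.symm.trans h2))

/-- class at most two passes to quotients -/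
theorem gq_cl_quot (N : Subgroup G) [N.Normal]
    (hcl : ∀ a b : G, a * b * a⁻¹ * b⁻¹ ∈ Subgroup.center G) :
    ∀ a b : G ⧸ N, a * b * a⁻¹ * b⁻¹ ∈ Subgroup.center (G ⧸ N) := by
  intro a b
  induction a using QuotientGroup.induction_on with
  | H a =>
    induction b using QuotientGroup.induction_on with
    | H b => exact gq_mk_center N (hcl a b)

/-- `χ(1)² ≤ |G : Z(G)|` -/
theorem gq_deg_sq_le [Finite G] (χ : IrrCharacter G) :
    charDegree (χ : G → ℂ) ^ 2 ≤ (Subgroup.center G).index := by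
  classical
  haveI := Fintype.ofFinite G
  have h1 := gq_sum_norm_sq χ
  have h2 : ∑ g : G, (if g ∈ Subgroup.center G then (charDegree (χ : G → ℂ) : ℝ) ^ 2 else 0) ≤
      ∑ g : G, ‖(χ : G → ℂ) g‖ ^ 2 := by
    apply Finset.sum_le_sum
    intro g _
    split_ifs with h
    · rw [gq_norm_central χ g h]
    · positivity
  rw [h1, Finset.sum_ite, Finset.sum_const_zero, add_zero, Finset.sum_const, nsmul_eq_mul] at h2
  have h3 : (Finset.univ.filter (fun g : G => g ∈ Subgroup.center G)).card =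
      Nat.card (Subgroup.center G) := by
    rw [Nat.card_eq_fintype_card, Fintype.card_subtype]
  rw [h3] at h2
  have h4 : Nat.card (Subgroup.center G) * charDegree (χ : G → ℂ) ^ 2 ≤ Nat.card G := by
    exact_mod_cast h2
  have h5 := Subgroup.card_mul_index (Subgroup.center G)
  rw [← h5] at h4
  exact Nat.le_of_mul_le_mul_left h4 Nat.card_pos

/-- key principle: a character of the same degree as a nonlinear character of the quotient is
trivial on the kernel of the quotient map -/
theorem gq_kp [Finite G] (hGC : gqCond G) (M : Subgroup G) [M.Normal]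
    (θ : IrrCharacter (G ⧸ M)) (hθ : charDegree (θ : G ⧸ M → ℂ) ≠ 1)
    (χ : IrrCharacter G) (hdeg : charDegree (χ : G → ℂ) = charDegree (θ : G ⧸ M → ℂ))
    (m : G) (hm : m ∈ M) : (χ : G → ℂ) m = (χ : G → ℂ) 1 := by
  have hs := QuotientGroup.mk'_surjective M
  obtain ⟨k, -, hk⟩ := hGC (irrComp θ (QuotientGroup.mk' M) hs) χ
    (by rw [charDegree_irrComp]; exact hθ) (by rw [charDegree_irrComp]; exact hdeg.symm)
  have h1 := hk m
  have h2 := hk 1
  rw [irrComp_apply] at h1 h2
  have h3 : (QuotientGroup.mk' M) (m ^ k) = 1 :=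
    (QuotientGroup.eq_one_iff _).mpr (Subgroup.pow_mem _ hm k)
  rw [h3] at h1
  rw [one_pow, map_one] at h2
  rw [h1, h2]

/-- If `N` is a central subgroup of exponent dividing `p` and `G ⧸ N` has cyclic centre, then
`|G : Z(G)|` is `|G/N : Z(G/N)|` or `p` times it. -/
theorem gq_index_center [Finite G] (p : ℕ) [hp : Fact p.Prime] (N : Subgroup G) [N.Normal]
    (hNZ : N ≤ Subgroup.center G) (hNp : ∀ n ∈ N, n ^ p = 1)
    (hcyc : IsCyclic (Subgroup.center (G ⧸ N))) :
    (Subgroup.center G).index = (Subgroup.center (G ⧸ N)).index ∨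
      (Subgroup.center G).index = p * (Subgroup.center (G ⧸ N)).index := by
  obtain ⟨Z₁, hZ₁⟩ : ∃ Z₁ : Subgroup G,
      Z₁ = (Subgroup.center (G ⧸ N)).comap (QuotientGroup.mk' N) := ⟨_, rfl⟩
  have hs := QuotientGroup.mk'_surjective N
  have hmemZ₁ : ∀ z : G, z ∈ Z₁ ↔ (QuotientGroup.mk' N) z ∈ Subgroup.center (G ⧸ N) := by
    intro z
    rw [hZ₁, Subgroup.mem_comap]
  have hidx : Z₁.index = (Subgroup.center (G ⧸ N)).index := by
    rw [hZ₁]
    exact Subgroup.index_comap_of_surjective _ hs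
  have hle : Subgroup.center G ≤ Z₁ := fun z hz => (hmemZ₁ z).mpr (gq_mk_center N hz)
  have hrel := Subgroup.relIndex_mul_index hle
  have hpow : ∀ z ∈ Z₁, z ^ p ∈ Subgroup.center G := by
    intro z hz
    have hzc := (hmemZ₁ z).mp hz
    rw [Subgroup.mem_center_iff]
    intro g
    have hn : z⁻¹ * g⁻¹ * z * g ∈ N := by
      rw [← QuotientGroup.eq_one_iff]
      have hq := Subgroup.mem_center_iff.mp hzc ((QuotientGroup.mk' N) g)⁻¹
      show (QuotientGroup.mk' N) (z⁻¹ * g⁻¹ * z * g) = 1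
      rw [map_mul, map_mul, map_mul, map_inv, map_inv, mul_assoc ((QuotientGroup.mk' N) z)⁻¹, hq]
      group
    have hncen := hNZ hn
    have hzg : z * g = g * z * (z⁻¹ * g⁻¹ * z * g) := by group
    have hind : ∀ i : ℕ, z ^ i * g = g * z ^ i * (z⁻¹ * g⁻¹ * z * g) ^ i := by
      intro i
      induction i with
      | zero => simp
      | succ i ih =>
        have hni := Subgroup.mem_center_iff.mp (Subgroup.pow_mem _ hncen i) z
        calc z ^ (i + 1) * g = z ^ i * (z * g) := by rw [pow_succ, mul_assoc]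
          _ = z ^ i * (g * z * (z⁻¹ * g⁻¹ * z * g)) := by rw [← hzg]
          _ = (z ^ i * g) * z * (z⁻¹ * g⁻¹ * z * g) := by simp only [mul_assoc]
          _ = (g * z ^ i * (z⁻¹ * g⁻¹ * z * g) ^ i) * z * (z⁻¹ * g⁻¹ * z * g) := by rw [ih]
          _ = g * z ^ i * ((z⁻¹ * g⁻¹ * z * g) ^ i * z) * (z⁻¹ * g⁻¹ * z * g) := by
              simp only [mul_assoc]
          _ = g * z ^ i * (z * (z⁻¹ * g⁻¹ * z * g) ^ i) * (z⁻¹ * g⁻¹ * z * g) := by rw [← hni]
          _ = g * z ^ (i + 1) * (z⁻¹ * g⁻¹ * z * g) ^ (i + 1) := by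
              rw [pow_succ, pow_succ]
              simp only [mul_assoc]
    have h1 := hind p
    rw [hNp _ hn, mul_one] at h1
    exact h1.symm
  have hkey : (Subgroup.center G).relIndex Z₁ ∣ p := by
    obtain ⟨tb, htb⟩ := hcyc.exists_generator
    obtain ⟨t, ht⟩ := hs (tb : G ⧸ N)
    have htZ : t ∈ Z₁ := by
      rw [hmemZ₁, ht]
      exact tb.2
    have hcardW : (Subgroup.center G).relIndex Z₁ =
        Nat.card (↥Z₁ ⧸ (Subgroup.center G).subgroupOf Z₁) := Subgroup.index_eq_card _
    have hgen : ∀ w : ↥Z₁ ⧸ (Subgroup.center G).subgroupOf Z₁,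
        w ∈ Subgroup.zpowers
          (QuotientGroup.mk (⟨t, htZ⟩ : Z₁) : ↥Z₁ ⧸ (Subgroup.center G).subgroupOf Z₁) := by
      intro w
      induction w using QuotientGroup.induction_on with
      | H z =>
        have hz := (hmemZ₁ (z : G)).mp z.2
        obtain ⟨j, hj⟩ := Subgroup.mem_zpowers_iff.mp (htb ⟨_, hz⟩)
        have hj' : (QuotientGroup.mk' N) (t ^ j) = (QuotientGroup.mk' N) (z : G) := by
          rw [map_zpow, ht]
          have := congrArg Subtype.val hj
          simpa using this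
        rw [Subgroup.mem_zpowers_iff]
        refine ⟨j, ?_⟩
        rw [← QuotientGroup.mk_zpow, QuotientGroup.eq, Subgroup.mem_subgroupOf]
        have h3 : (t ^ j)⁻¹ * (z : G) ∈ N := QuotientGroup.eq.mp hj'
        simpa using hNZ h3
    have hord := orderOf_eq_card_of_forall_mem_zpowers hgen
    have hτp : (QuotientGroup.mk (⟨t, htZ⟩ : Z₁) :
        ↥Z₁ ⧸ (Subgroup.center G).subgroupOf Z₁) ^ p = 1 := by
      rw [← QuotientGroup.mk_pow, QuotientGroup.eq_one_iff, Subgroup.mem_subgroupOf]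
      simpa using hpow t htZ
    rw [hcardW, ← hord]
    exact orderOf_dvd_of_pow_eq_one hτp
  rcases (Nat.Prime.eq_one_or_self_of_dvd hp.out _ hkey) with h | h
  · left
    rw [← hrel, h, one_mul, hidx]
  · right
    rw [← hrel, h, hidx]

/-- the degree of an irreducible character is at most the index of a commutative subgroup
(same argument as `Helper15.SL2E.deg_le_index_of_comm`, repeated here to keep imports light) -/
theorem gq_deg_le_index [Finite G] (A : Subgroup G)
    (hA : ∀ a ∈ A, ∀ b ∈ A, a * b = b * a) (χ : IrrCharacter G) :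
    charDegree (χ : G → ℂ) ≤ A.index := by
  classical
  haveI := Fintype.ofFinite G
  haveI : Fintype A := Fintype.ofFinite A
  have hχc : IsCharacter G (χ : G → ℂ) := Helper2.isCharacter_of_isIrrCharacter χ.2
  have hres : IsCharacter A (fun a : A => (χ : G → ℂ) a) := Helper2.isCharacter_restrict A hχc
  have hres1 : (fun a : A => (χ : G → ℂ) a) 1 ≠ 0 := by
    show (χ : G → ℂ) ((1 : A) : G) ≠ 0
    rw [Subgroup.coe_one]
    exact irr_one_ne_zero χ
  obtain ⟨ξ, hξ⟩ := Helper24.exists_constituent hres hres1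
  have hcommA : ∀ a b : A, a * b = b * a := fun a b => Subtype.ext (hA a a.2 b b.2)
  obtain ⟨lam, hlam⟩ := Helper2.exists_hom_of_irr_of_comm hcommA ξ
  have hξ1 : (ξ : A → ℂ) 1 = 1 := by
    rw [hlam]
    simp
  have hind : IsCharacter G (indFun A (ξ : A → ℂ)) :=
    Helper2.isCharacter_indFun A (Helper2.isCharacter_of_isIrrCharacter ξ.2)
  have hrec := Helper2.frobenius_reciprocity A (ξ : A → ℂ) (χ : G → ℂ)
    (Helper2.isClassFunction_of_isCharacter hχc)
  have hne : classInner (indFun A (ξ : A → ℂ)) (χ : G → ℂ) ≠ 0 := by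
    rw [hrec, Helper2.classInner_conj_symm]
    intro h
    apply hξ
    have := congrArg (starRingEnd ℂ) h
    simpa using this
  have hexp := Helper2.classFun_eq_sum_classInner (Helper2.isClassFunction_of_isCharacter hind)
  have hnat : ∀ ψ : IrrCharacter G, ∃ m : ℕ,
      classInner (indFun A (ξ : A → ℂ)) (ψ : G → ℂ) = m :=
    fun ψ => Helper2.classInner_char_nat hind (Helper2.isCharacter_of_isIrrCharacter ψ.2)
  choose m hm using hnat
  have h1 := congrFun hexp 1
  rw [Helper7.indFun_one, hξ1, mul_one] at h1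
  simp only [Finset.sum_apply, Pi.smul_apply, smul_eq_mul] at h1
  have h2 : ((A.index : ℕ) : ℂ) =
      ((∑ ψ : IrrCharacter G, m ψ * charDegree (ψ : G → ℂ) : ℕ) : ℂ) := by
    push_cast
    have e : ∀ ψ : IrrCharacter G, (m ψ : ℂ) * (charDegree (ψ : G → ℂ) : ℂ) =
        classInner (indFun A (ξ : A → ℂ)) (ψ : G → ℂ) * (ψ : G → ℂ) 1 := by
      intro ψ
      rw [← hm ψ, ← irr_one_eq_degree ψ]
    rw [Finset.sum_congr rfl (fun ψ _ => e ψ), ← h1, ← Subgroup.card_mul_index A]
    have hA0 : (Nat.card A : ℂ) ≠ 0 := Nat.cast_ne_zero.mpr Nat.card_pos.ne'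
    push_cast
    field_simp
  have h3 : A.index = ∑ ψ : IrrCharacter G, m ψ * charDegree (ψ : G → ℂ) := by
    exact_mod_cast h2
  rw [h3]
  have hmχ : 1 ≤ m χ := by
    rcases Nat.eq_zero_or_pos (m χ) with h0 | h0
    · exfalso
      apply hne
      rw [hm χ, h0]
      simp
    · exact h0
  calc charDegree (χ : G → ℂ) ≤ m χ * charDegree (χ : G → ℂ) := Nat.le_mul_of_pos_left _ hmχ
    _ ≤ ∑ ψ : IrrCharacter G, m ψ * charDegree (ψ : G → ℂ) :=
        Finset.single_le_sum (f := fun ψ => m ψ * charDegree (ψ : G → ℂ))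
          (fun _ _ => Nat.zero_le _) (Finset.mem_univ χ)

/-- a subgroup of prime order has a nontrivial element -/
theorem gq_exists_ne_one (p : ℕ) (hp : p.Prime) (M : Subgroup G) (hMp : Nat.card M = p) :
    ∃ m ∈ M, m ≠ 1 := by
  by_contra hno
  have : M = ⊥ := by
    rw [eq_bot_iff]
    intro m hm
    rw [Subgroup.mem_bot]
    by_contra h
    exact hno ⟨m, hm, h⟩
  rw [this, Subgroup.card_bot] at hMp
  exact hp.one_lt.ne hMp

/-- a character which is nontrivial at an element of the derived subgroup is nonlinear -/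
theorem gq_nonlinear_of_ne [Finite G] (χ : IrrCharacter G) {m : G} (hm : m ∈ commutator G)
    (h : (χ : G → ℂ) m ≠ (χ : G → ℂ) 1) : charDegree (χ : G → ℂ) ≠ 1 := by
  intro h1
  have h2 : (χ : G → ℂ) 1 = 1 := by
    rw [irr_one_eq_degree, h1]
    simp
  apply h
  rw [irr_linear_commutator χ h2 hm, h2]

/-- Case I of the main argument: class two. -/
theorem gq_caseI [Finite G] (p : ℕ) [hp : Fact p.Prime] (hG : IsPGroup p G) (hGC : gqCond G)
    (hcl : ∀ a b : G, a * b * a⁻¹ * b⁻¹ ∈ Subgroup.center G)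
    (M : Subgroup G) [M.Normal] (hMp : Nat.card M = p) (hMc : M ≤ commutator G)
    (hQ : Nat.card (commutator (G ⧸ M)) = p) : False := by
  have hMZ : M ≤ Subgroup.center G := gq_normal_p_central p hG M hMp
  have hGCQ := gq_quot hGC M
  obtain ⟨θ, hθ⟩ := gq_exists_nonlinear (gq_not_comm p hp.out hQ)
  have hfθ := gq_faithful hGCQ p hQ θ hθ
  have hclQ := gq_cl_quot M hcl
  have hd1 := gq_deg_sq hclQ θ hfθ
  have hcyc1 := gq_center_cyclic θ hfθ
  have hidx1 := gq_index_center p M hMZ (fun n hn => gq_pow_p p M hMp hn) hcyc1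
  obtain ⟨m₀, hm₀M, hm₀1⟩ := gq_exists_ne_one p hp.out M hMp
  obtain ⟨χ₀, hχ₀⟩ := gq_exists_not_ker m₀ hm₀1
  have hχ₀nl := gq_nonlinear_of_ne χ₀ (hMc hm₀M) hχ₀
  have hKc : irrKer χ₀ ≤ commutator G :=
    fun n hn => gq_ker_le hGC χ₀ hχ₀nl n ((mem_irrKer χ₀ n).mp hn)
  have hcomZ : commutator G ≤ Subgroup.center G := by
    rw [commutator_eq_closure, Subgroup.closure_le]
    rintro _ ⟨a, b, rfl⟩
    exact hcl a b
  have hKZ : irrKer χ₀ ≤ Subgroup.center G := hKc.trans hcomZ
  have hKM : ∀ n ∈ irrKer χ₀, n ∈ M → n = 1 := by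
    intro n hnK hnM
    by_contra hn1
    obtain ⟨k, hk⟩ := gq_prime_zpow p M hMp hnM hn1 hm₀M
    apply hχ₀
    rw [← hk]
    exact (mem_irrKer χ₀ _).mp (Subgroup.zpow_mem _ hnK k)
  have hKp : ∀ n ∈ irrKer χ₀, n ^ p = 1 := by
    intro n hn
    apply hKM _ (Subgroup.pow_mem _ hn p)
    have h1 : (QuotientGroup.mk n : G ⧸ M) ∈ commutator (G ⧸ M) := gq_mk_comm M (hKc hn)
    have h2 := gq_pow_p p (commutator (G ⧸ M)) hQ h1
    rw [← QuotientGroup.mk_pow, QuotientGroup.eq_one_iff] at h2
    exact h2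
  obtain ⟨ψ, hψ⟩ := exists_deflate χ₀ (irrKer χ₀) le_rfl
  have hψ1 : (ψ : G ⧸ irrKer χ₀ → ℂ) 1 = (χ₀ : G → ℂ) 1 := hψ 1
  have hfψ : ∀ q : G ⧸ irrKer χ₀, (ψ : G ⧸ irrKer χ₀ → ℂ) q = (ψ : G ⧸ irrKer χ₀ → ℂ) 1 →
      q = 1 := by
    intro q hq
    induction q using QuotientGroup.induction_on with
    | H g =>
      rw [hψ g, hψ1] at hq
      exact (QuotientGroup.eq_one_iff g).mpr ((mem_irrKer χ₀ g).mpr hq)
  have hdegψ : charDegree (ψ : G ⧸ irrKer χ₀ → ℂ) = charDegree (χ₀ : G → ℂ) := by
    have h1 := hψ1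
    rw [irr_one_eq_degree, irr_one_eq_degree] at h1
    exact_mod_cast h1
  have hclK := gq_cl_quot (irrKer χ₀) hcl
  have hd0 := gq_deg_sq hclK ψ hfψ
  have hcyc0 := gq_center_cyclic ψ hfψ
  have hidx0 := gq_index_center p (irrKer χ₀) hKZ hKp hcyc0
  rw [← hd1] at hidx1
  rw [← hd0, hdegψ] at hidx0
  have heq := gq_parity p hp.out _ _ _ (irr_degree_pos χ₀).ne' (irr_degree_pos θ).ne' hidx0 hidx1
  exact hχ₀ (gq_kp hGC M θ hθ χ₀ heq m₀ hm₀M)

/-- Case II of the main argument: the derived subgroup (of order `p²`) is not central. -/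
theorem gq_caseII [Finite G] (p : ℕ) [hp : Fact p.Prime] (hG : IsPGroup p G) (hGC : gqCond G)
    (hncl : ¬ commutator G ≤ Subgroup.center G) (hc : Nat.card (commutator G) = p ^ 2)
    (M : Subgroup G) [M.Normal] (hMp : Nat.card M = p) (hMc : M ≤ commutator G)
    (hQ : Nat.card (commutator (G ⧸ M)) = p) : False := by
  have hp1 := hp.out.one_lt
  have hMZ : M ≤ Subgroup.center G := gq_normal_p_central p hG M hMp
  have hZc : Subgroup.center G ≤ commutator G := gq_comparable hGC _ hncl
  have hZM : Subgroup.center G = M := by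
    symm
    apply Subgroup.eq_of_le_of_card_ge hMZ
    rw [hMp]
    have h1 := Subgroup.card_dvd_of_le hZc
    rw [hc] at h1
    obtain ⟨j, hj, hj'⟩ := (Nat.dvd_prime_pow hp.out).mp h1
    have hj2 : j ≠ 2 := by
      intro h2
      apply hncl
      have : Subgroup.center G = commutator G :=
        Subgroup.eq_of_le_of_card_ge hZc (by rw [hc, hj', h2])
      rw [this]
    rw [hj']
    have hj1 : j ≤ 1 := by omega
    calc p ^ j ≤ p ^ 1 := Nat.pow_le_pow_right hp.out.pos hj1
      _ = p := pow_one p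
  have hGCQ := gq_quot hGC M
  have hGQ : IsPGroup p (G ⧸ M) := hG.to_quotient M
  obtain ⟨θ, hθ⟩ := gq_exists_nonlinear (gq_not_comm p hp.out hQ)
  have hfθ := gq_faithful hGCQ p hQ θ hθ
  have hQZ : commutator (G ⧸ M) ≤ Subgroup.center (G ⧸ M) := gq_normal_p_central p hGQ _ hQ
  have hclQ : ∀ a b : G ⧸ M, a * b * a⁻¹ * b⁻¹ ∈ Subgroup.center (G ⧸ M) :=
    fun a b => hQZ (gq_comm_mem a b)
  have hd1 := gq_deg_sq hclQ θ hfθ
  have hcyc1 := gq_center_cyclic θ hfθ
  have hidx1 := gq_index_center p M hMZ (fun n hn => gq_pow_p p M hMp hn) hcyc1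
  -- an element of the derived subgroup outside `M`
  obtain ⟨c₀, hc₀, hc₀M⟩ : ∃ c ∈ commutator G, c ∉ M := by
    by_contra hno
    have hle : commutator G ≤ M := fun c hc' => by
      by_contra h
      exact hno ⟨c, hc', h⟩
    have := Subgroup.card_le_of_le hle
    rw [hc, hMp] at this
    nlinarith
  obtain ⟨C, hC⟩ : ∃ C : Subgroup G, C = Subgroup.centralizer ({c₀} : Set G) := ⟨_, rfl⟩
  have hCidx : C.index ≤ p := by
    rw [hC, index_centralizer_eq_card_class c₀, ← hMp]
    have hmem : ∀ x : {x : G // IsConj c₀ x}, c₀⁻¹ * x.1 ∈ M := by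
      intro x
      obtain ⟨g, hg⟩ := isConj_iff.mp x.2
      rw [← hg, ← QuotientGroup.eq_one_iff]
      have h1 : (QuotientGroup.mk' M) c₀ ∈ Subgroup.center (G ⧸ M) := hQZ (gq_mk_comm M hc₀)
      have h2 := Subgroup.mem_center_iff.mp h1 ((QuotientGroup.mk' M) g)
      show (QuotientGroup.mk' M) (c₀⁻¹ * (g * c₀ * g⁻¹)) = 1
      rw [map_mul, map_mul, map_mul, map_inv, map_inv, h2]
      group
    exact Nat.card_le_card_of_injective (fun x => (⟨c₀⁻¹ * x.1, hmem x⟩ : M))
      (fun x y h => Subtype.ext (mul_left_cancel (congrArg Subtype.val h)))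
  have hcomC : commutator G ≤ Subgroup.centralizer (C : Set G) := by
    have hS : Subgroup.zpowers c₀ ⊔ M ≤ commutator G :=
      sup_le ((Subgroup.zpowers_le).mpr hc₀) hMc
    have hSeq : Subgroup.zpowers c₀ ⊔ M = commutator G := by
      apply Subgroup.eq_of_le_of_card_ge hS
      rw [hc]
      have h1 := Subgroup.card_dvd_of_le hS
      rw [hc] at h1
      obtain ⟨j, hj, hj'⟩ := (Nat.dvd_prime_pow hp.out).mp h1
      rw [hj']
      by_contra hlt
      have hj1 : j ≤ 1 := by
        by_contra h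
        have h2 : j = 2 := by omega
        rw [h2] at hlt
        exact hlt le_rfl
      have hMS : M = Subgroup.zpowers c₀ ⊔ M := Subgroup.eq_of_le_of_card_ge le_sup_right (by
        rw [hj', hMp]
        calc p ^ j ≤ p ^ 1 := Nat.pow_le_pow_right hp.out.pos hj1
          _ = p := pow_one p)
      apply hc₀M
      rw [hMS]
      exact Subgroup.mem_sup_left (Subgroup.mem_zpowers c₀)
    rw [← hSeq]
    apply sup_le
    · rw [Subgroup.zpowers_le, Subgroup.mem_centralizer_iff]
      intro x hx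
      rw [SetLike.mem_coe, hC, Subgroup.mem_centralizer_iff] at hx
      exact (hx c₀ (Set.mem_singleton c₀)).symm
    · exact hMZ.trans (Subgroup.center_le_centralizer _)
  have h3 : ⁅⁅C, C⁆, (⊤ : Subgroup G)⁆ = ⊥ := by
    apply Subgroup.commutator_commutator_eq_bot_of_rotate
    · rw [Subgroup.commutator_eq_bot_iff_le_centralizer]
      refine le_trans (Subgroup.commutator_mono le_top le_rfl) ?_
      rw [← commutator_def]
      exact hcomC
    · rw [Subgroup.commutator_eq_bot_iff_le_centralizer]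
      refine le_trans (Subgroup.commutator_mono le_rfl le_top) ?_
      rw [← commutator_def]
      exact hcomC
  have hCC : ∀ a ∈ C, ∀ b ∈ C, a * b * a⁻¹ * b⁻¹ ∈ M := by
    intro a ha b hb
    rw [← hZM, Subgroup.mem_center_iff]
    intro g
    have h4 : ⁅a, b⁆ ∈ Subgroup.centralizer ((⊤ : Subgroup G) : Set G) :=
      (Subgroup.commutator_eq_bot_iff_le_centralizer.mp h3)
        (Subgroup.commutator_mem_commutator ha hb)
    exact Subgroup.mem_centralizer_iff.mp h4 g (Subgroup.mem_top g)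
  have hs := QuotientGroup.mk'_surjective M
  have hA : ∀ x ∈ C.map (QuotientGroup.mk' M), ∀ y ∈ C.map (QuotientGroup.mk' M),
      x * y = y * x := by
    rintro _ ⟨a, ha, rfl⟩ _ ⟨b, hb, rfl⟩
    have h5 : (QuotientGroup.mk' M) (a * b * a⁻¹ * b⁻¹) = 1 :=
      (QuotientGroup.eq_one_iff _).mpr (hCC a ha b hb)
    rw [map_mul, map_mul, map_mul, map_inv, map_inv] at h5
    calc (QuotientGroup.mk' M) a * (QuotientGroup.mk' M) b
        = ((QuotientGroup.mk' M) a * (QuotientGroup.mk' M) b * ((QuotientGroup.mk' M) a)⁻¹ *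
            ((QuotientGroup.mk' M) b)⁻¹) * ((QuotientGroup.mk' M) b * (QuotientGroup.mk' M) a) := by
          group
      _ = (QuotientGroup.mk' M) b * (QuotientGroup.mk' M) a := by rw [h5, one_mul]
  have hAidx : (C.map (QuotientGroup.mk' M)).index ≤ p := by
    rw [Subgroup.index_map_eq C hs (by
      rw [QuotientGroup.ker_mk', hC]
      exact hMZ.trans (Subgroup.center_le_centralizer _))]
    exact hCidx
  have hd1le : charDegree (θ : G ⧸ M → ℂ) ≤ p := (gq_deg_le_index _ hA θ).trans hAidx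
  -- the degree of θ is p
  have hd1p : charDegree (θ : G ⧸ M → ℂ) = p := by
    obtain ⟨n, hn⟩ := IsPGroup.iff_card.mp hGQ
    have h1 := irr_degree_dvd_card θ
    rw [hn] at h1
    obtain ⟨j, -, hj⟩ := (Nat.dvd_prime_pow hp.out).mp h1
    rcases Nat.eq_zero_or_pos j with h0 | h0
    · rw [h0, pow_zero] at hj
      exact absurd hj hθ
    · apply le_antisymm hd1le
      rw [hj]
      calc p = p ^ 1 := (pow_one p).symm
        _ ≤ p ^ j := Nat.pow_le_pow_right hp.out.pos h0
  have hZidx : (Subgroup.center G).index ≤ p ^ 3 := by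
    rw [← hd1, hd1p] at hidx1
    rcases hidx1 with h | h
    · rw [h]
      exact Nat.pow_le_pow_right hp.out.pos (by norm_num)
    · rw [h]
      exact le_of_eq (by ring)
  obtain ⟨m₀, hm₀M, hm₀1⟩ := gq_exists_ne_one p hp.out M hMp
  obtain ⟨χ₀, hχ₀⟩ := gq_exists_not_ker m₀ hm₀1
  have hχ₀nl := gq_nonlinear_of_ne χ₀ (hMc hm₀M) hχ₀
  have hd0p : charDegree (χ₀ : G → ℂ) = p := by
    obtain ⟨n, hn⟩ := IsPGroup.iff_card.mp hG
    have h1 := irr_degree_dvd_card χ₀
    rw [hn] at h1
    obtain ⟨j, -, hj⟩ := (Nat.dvd_prime_pow hp.out).mp h1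
    have h2 := (gq_deg_sq_le χ₀).trans hZidx
    rw [hj, ← pow_mul] at h2
    have h3 : j * 2 ≤ 3 := (Nat.pow_le_pow_iff_right hp1).mp h2
    have hj1 : j = 1 := by
      rcases Nat.eq_zero_or_pos j with h0 | h0
      · rw [h0, pow_zero] at hj
        exact absurd hj hχ₀nl
      · omega
    rw [hj, hj1, pow_one]
  exact hχ₀ (gq_kp hGC M θ hθ χ₀ (hd0p.trans hd1p.symm) m₀ hm₀M)

/-- Under the Galois condition, the derived subgroup of a `p`-group has order at most `p`. -/
theorem gq_card_comm_le (p : ℕ) [hp : Fact p.Prime] :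
    ∀ (n : ℕ) (G : Type u) [Group G] [Finite G], Nat.card G = n → IsPGroup p G → gqCond G →
      Nat.card (commutator G) ≤ p := by
  intro n
  induction n using Nat.strong_induction_on with
  | _ n ih =>
    intro G _ _ hn hG hGC
    have hp1 := hp.out.one_lt
    by_contra hgt
    rw [not_le] at hgt
    have hne : commutator G ≠ ⊥ := by
      intro h
      rw [h, Subgroup.card_bot] at hgt
      omega
    obtain ⟨b, hbc, hb1, hbZ⟩ := Lead.normal_inf_center_ne_bot' p hG (commutator G) hne
    have hpb : p ∣ orderOf b := by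
      obtain ⟨k, hk⟩ := hG b
      obtain ⟨j, -, hj⟩ := (Nat.dvd_prime_pow hp.out).mp (orderOf_dvd_of_pow_eq_one hk)
      rcases Nat.eq_zero_or_pos j with h0 | h0
      · rw [h0, pow_zero, orderOf_eq_one_iff] at hj
        exact absurd hj hb1
      · rw [hj]
        exact dvd_pow_self p h0.ne'
    have hob' : orderOf (b ^ (orderOf b / p)) = p :=
      orderOf_pow_orderOf_div (orderOf_pos b).ne' hpb
    obtain ⟨M, hM⟩ : ∃ M : Subgroup G, M = Subgroup.zpowers (b ^ (orderOf b / p)) := ⟨_, rfl⟩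
    have hMp : Nat.card M = p := by rw [hM, Nat.card_zpowers, hob']
    have hMZ : M ≤ Subgroup.center G := by
      rw [hM, Subgroup.zpowers_le]
      exact Subgroup.pow_mem _ hbZ _
    have hMc : M ≤ commutator G := by
      rw [hM, Subgroup.zpowers_le]
      exact Subgroup.pow_mem _ hbc _
    haveI hMn : M.Normal := ⟨fun x hx g => by
      have := Subgroup.mem_center_iff.mp (hMZ hx) g
      rw [this, mul_inv_cancel_right]
      exact hx⟩
    have hcardQ : Nat.card (G ⧸ M) * p = Nat.card G := by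
      rw [← hMp]
      exact (Subgroup.card_eq_card_quotient_mul_card_subgroup M).symm
    have hlt : Nat.card (G ⧸ M) < n := by
      rw [← hn, ← hcardQ]
      have : 0 < Nat.card (G ⧸ M) := Nat.card_pos
      nlinarith
    have hQle := ih _ hlt (G ⧸ M) rfl (hG.to_quotient M) (gq_quot hGC M)
    have hcardc : Nat.card (commutator (G ⧸ M)) * p = Nat.card (commutator G) := by
      have hs := QuotientGroup.mk'_surjective M
      have hmap : commutator (G ⧸ M) = (commutator G).map (QuotientGroup.mk' M) := by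
        rw [commutator_def, commutator_def, Subgroup.map_commutator,
          Subgroup.map_top_of_surjective _ hs]
      have hker : (QuotientGroup.mk' M).ker ≤ commutator G := by
        rw [QuotientGroup.ker_mk']
        exact hMc
      have hidx := Subgroup.index_map_eq (commutator G) hs hker
      rw [← hmap] at hidx
      have h1 := Subgroup.card_mul_index (commutator (G ⧸ M))
      have h2 := Subgroup.card_mul_index (commutator G)
      rw [hidx] at h1
      have h3 : Nat.card (commutator (G ⧸ M)) * p * (commutator G).index =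
          Nat.card (commutator G) * (commutator G).index := by
        rw [h2, ← hcardQ, ← h1]
        ring
      exact Nat.eq_of_mul_eq_mul_right
        (Nat.pos_of_ne_zero Subgroup.index_ne_zero_of_finite) h3
    have hQp : Nat.card (commutator (G ⧸ M)) = p := by
      apply le_antisymm hQle
      by_contra h
      rw [not_le] at h
      obtain ⟨j, hj⟩ := IsPGroup.iff_card.mp
        ((hG.to_quotient M).to_subgroup (commutator (G ⧸ M)))
      have hj0 : j = 0 := by
        by_contra hj0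
        have h4 : p ^ 1 ≤ p ^ j :=
          Nat.pow_le_pow_right hp.out.pos (Nat.one_le_iff_ne_zero.mpr hj0)
        rw [pow_one, ← hj] at h4
        omega
      rw [hj, hj0, pow_zero, one_mul] at hcardc
      omega
    have hc2 : Nat.card (commutator G) = p ^ 2 := by
      rw [← hcardc, hQp]
      ring
    by_cases hcl : commutator G ≤ Subgroup.center G
    · exact gq_caseI p hG hGC (fun a b => hcl (gq_comm_mem a b)) M hMp hMc hQp
    · exact gq_caseII p hG hGC hcl hc2 M hMp hMc hQp

/-- Forward direction of S4845. -/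
theorem gq_forward [Finite G] (p : ℕ) [hp : Fact p.Prime] (hG : IsPGroup p G)
    (hna : ¬ ∀ a b : G, a * b = b * a) (hGC : gqCond G) :
    IsCyclic (Subgroup.center G) ∧ Nat.card (commutator G) = p := by
  have hp1 := hp.out.one_lt
  have hle := gq_card_comm_le p (Nat.card G) G rfl hG hGC
  have hcard : Nat.card (commutator G) = p := by
    obtain ⟨j, hj⟩ := IsPGroup.iff_card.mp (hG.to_subgroup (commutator G))
    have hj0 : j ≠ 0 := by
      intro h0
      rw [h0, pow_zero] at hj
      apply hna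
      have hbot : commutator G = ⊥ := Subgroup.card_eq_one.mp hj
      intro a b
      have h1 : a * b * a⁻¹ * b⁻¹ ∈ commutator G := gq_comm_mem a b
      rw [hbot, Subgroup.mem_bot] at h1
      calc a * b = (a * b * a⁻¹ * b⁻¹) * (b * a) := by group
        _ = b * a := by rw [h1, one_mul]
    rw [hj] at hle ⊢
    have hj1 : j ≤ 1 := by
      by_contra h
      have h2 : p ^ 2 ≤ p ^ j := Nat.pow_le_pow_right hp.out.pos (by omega)
      nlinarith
    have hj2 : j = 1 := by omega
    rw [hj2, pow_one]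
  refine ⟨?_, hcard⟩
  obtain ⟨χ, hχ⟩ := gq_exists_nonlinear hna
  exact gq_center_cyclic χ (gq_faithful hGC p hcard χ hχ)

/-- `x ^ k` central implies `x` central, for `k` prime to `|G|` -/
theorem gq_center_of_pow [Finite G] (k : ℕ) (hk : Nat.Coprime k (Nat.card G)) {x : G}
    (hx : x ^ k ∈ Subgroup.center G) : x ∈ Subgroup.center G := by
  have h1 : (powCoprime hk.symm).symm (x ^ k) = x := (powCoprime hk.symm).symm_apply_apply x
  have h2 : (powCoprime hk.symm).symm (x ^ k) = (x ^ k) ^ ((Nat.card G).gcdB k) := rfl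
  rw [← h1, h2]
  exact Subgroup.zpow_mem _ hx _

/-- in a cyclic subgroup, an element of order `p` generates all elements killed by `p` -/
theorem gq_cyc_unique [Finite G] (Z : Subgroup G) (hcyc : IsCyclic Z) (p : ℕ) (hp : p.Prime)
    {z c : G} (hz : z ∈ Z) (hc : c ∈ Z) (hzo : orderOf z = p) (hcp : c ^ p = 1) :
    ∃ i : ℕ, z ^ i = c := by
  classical
  haveI : Fintype Z := Fintype.ofFinite Z
  have hle := IsCyclic.card_pow_eq_one_le (α := Z) hp.pos
  have hoz' : orderOf (⟨z, hz⟩ : Z) = p := by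
    rw [← hzo]
    exact Subgroup.orderOf_mk z hz
  have hScard : ((Finset.range p).image (fun i => (⟨z, hz⟩ : Z) ^ i)).card = p := by
    rw [Finset.card_image_of_injOn, Finset.card_range]
    intro i hi j hj hij
    apply pow_injOn_Iio_orderOf (x := (⟨z, hz⟩ : Z))
    · rw [hoz']
      simpa using hi
    · rw [hoz']
      simpa using hj
    · exact hij
  have hSsub : (Finset.range p).image (fun i => (⟨z, hz⟩ : Z) ^ i) ⊆
      Finset.univ.filter (fun a : Z => a ^ p = 1) := by
    intro a ha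
    obtain ⟨i, -, rfl⟩ := Finset.mem_image.mp ha
    rw [Finset.mem_filter]
    refine ⟨Finset.mem_univ _, ?_⟩
    rw [← pow_mul, mul_comm, pow_mul, ← hoz', pow_orderOf_eq_one, one_pow]
  have hSeq := Finset.eq_of_subset_of_card_le hSsub (by rw [hScard]; exact hle)
  have hcS : (⟨c, hc⟩ : Z) ∈ (Finset.range p).image (fun i => (⟨z, hz⟩ : Z) ^ i) := by
    rw [hSeq, Finset.mem_filter]
    exact ⟨Finset.mem_univ _, Subtype.ext (by simpa using hcp)⟩
  obtain ⟨i, -, hi⟩ := Finset.mem_image.mp hcS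
  exact ⟨i, by simpa using congrArg Subtype.val hi⟩

/-- Backward direction of S4845. -/
theorem gq_backward [Finite G] (p : ℕ) [hp : Fact p.Prime] (hG : IsPGroup p G)
    (hcyc : IsCyclic (Subgroup.center G)) (hc : Nat.card (commutator G) = p) : gqCond G := by
  have hp1 := hp.out.one_lt
  have hcomZ : commutator G ≤ Subgroup.center G := gq_normal_p_central p hG _ hc
  have hcl : ∀ a b : G, a * b * a⁻¹ * b⁻¹ ∈ Subgroup.center G :=
    fun a b => hcomZ (gq_comm_mem a b)
  have hfaith : ∀ χ : IrrCharacter G, charDegree (χ : G → ℂ) ≠ 1 →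
      ∀ g : G, (χ : G → ℂ) g = (χ : G → ℂ) 1 → g = 1 := by
    intro χ hχ g hg
    by_contra hg1
    have hne : irrKer χ ≠ ⊥ := by
      intro h
      have h' : g ∈ irrKer χ := (mem_irrKer χ g).mpr hg
      rw [h, Subgroup.mem_bot] at h'
      exact hg1 h'
    obtain ⟨z, hzK, hz1, hzZ⟩ := Lead.normal_inf_center_ne_bot' p hG (irrKer χ) hne
    have hpz : p ∣ orderOf z := by
      obtain ⟨k, hk⟩ := hG z
      obtain ⟨j, -, hj⟩ := (Nat.dvd_prime_pow hp.out).mp (orderOf_dvd_of_pow_eq_one hk)
      rcases Nat.eq_zero_or_pos j with h0 | h0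
      · rw [h0, pow_zero, orderOf_eq_one_iff] at hj
        exact absurd hj hz1
      · rw [hj]
        exact dvd_pow_self p h0.ne'
    have hoz' : orderOf (z ^ (orderOf z / p)) = p :=
      orderOf_pow_orderOf_div (orderOf_pos z).ne' hpz
    apply hχ
    apply gq_linear_of_comm_ker
    intro a b
    obtain ⟨i, hi⟩ := gq_cyc_unique (Subgroup.center G) hcyc p hp.out
      (Subgroup.pow_mem _ hzZ _) (hcl a b) hoz' (gq_pow_p p (commutator G) hc (gq_comm_mem a b))
    rw [← hi]
    exact (mem_irrKer χ _).mp (Subgroup.pow_mem _ (Subgroup.pow_mem _ hzK _) i)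
  intro χ ψ hχ hdeg
  have hψ : charDegree (ψ : G → ℂ) ≠ 1 := by
    rw [← hdeg]
    exact hχ
  have hfχ := hfaith χ hχ
  have hfψ := hfaith ψ hψ
  have h1eq : (ψ : G → ℂ) 1 = (χ : G → ℂ) 1 := by
    rw [irr_one_eq_degree, irr_one_eq_degree, hdeg]
  obtain ⟨t, ht⟩ := hcyc.exists_generator
  have hot : orderOf t = Nat.card (Subgroup.center G) :=
    orderOf_eq_card_of_forall_mem_zpowers ht
  have hm0 : 0 < Nat.card (Subgroup.center G) := Nat.card_pos
  haveI : NeZero (Nat.card (Subgroup.center G)) := ⟨hm0.ne'⟩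
  have ha : IsPrimitiveRoot (gqHom χ t) (Nat.card (Subgroup.center G)) := by
    rw [← hot, ← orderOf_injective (gqHom χ) (gqHom_injective χ hfχ) t]
    exact IsPrimitiveRoot.orderOf _
  have hb : IsPrimitiveRoot (gqHom ψ t) (Nat.card (Subgroup.center G)) := by
    rw [← hot, ← orderOf_injective (gqHom ψ) (gqHom_injective ψ hfψ) t]
    exact IsPrimitiveRoot.orderOf _
  obtain ⟨i, -, hi⟩ := ha.eq_pow_of_pow_eq_one hb.pow_eq_one
  have hicop : Nat.Coprime i (Nat.card (Subgroup.center G)) := by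
    rw [← ha.pow_iff_coprime hm0 i, hi]
    exact hb
  have hpm : p ∣ Nat.card (Subgroup.center G) := by
    rw [← hc]
    exact Subgroup.card_dvd_of_le hcomZ
  have hip : Nat.Coprime i p := Nat.Coprime.coprime_dvd_right hpm hicop
  obtain ⟨n, hn⟩ := IsPGroup.iff_card.mp hG
  have hiG : Nat.Coprime i (Nat.card G) := by
    rw [hn]
    exact Nat.Coprime.pow_right n hip
  refine ⟨i, hiG, ?_⟩
  intro g
  by_cases hg : g ∈ Subgroup.center G
  · have hmem := ht ⟨g, hg⟩
    rw [← mem_powers_iff_mem_zpowers, Submonoid.mem_powers_iff] at hmem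
    obtain ⟨e, he⟩ := hmem
    have h1 : (ψ : G → ℂ) g = gqHom ψ ⟨g, hg⟩ * (ψ : G → ℂ) 1 :=
      (gqHom_mul_one ψ ⟨g, hg⟩).symm
    have h2 : (χ : G → ℂ) (g ^ i) = gqHom χ (⟨g, hg⟩ ^ i) * (χ : G → ℂ) 1 := by
      rw [gqHom_mul_one]
      rfl
    rw [h1, h2, h1eq, ← he, map_pow, map_pow, map_pow, ← hi, pow_right_comm]
  · have hgi : g ^ i ∉ Subgroup.center G := fun h => hg (gq_center_of_pow i hiG h)
    rw [gq_vanish hcl ψ hfψ g hg, gq_vanish hcl χ hfχ (g ^ i) hgi]

end Cfsg.Agent.Helper25
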