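import Mathlib

set_option autoImplicit false

/-!
Helper library (seat helper25): Landau's theorem — the order of a finite group is bounded in
terms of its class number.
-/

namespace Cfsg.Agent.Helper25

universe u

/-- Unit-fraction lemma: if `k` positive integers have reciprocals summing to `A > 0`, they are
bounded in terms of `k` and `A`. -/
theorem unit_fraction_bound : ∀ (k : ℕ) (A : ℚ), 0 < A → ∃ N : ℕ, ∀ s : Multiset ℕ,
    Multiset.card s = k → (∀ x ∈ s, 0 < x) → (s.map (fun x : ℕ => (1 : ℚ) / x)).sum = A →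
    ∀ x ∈ s, x ≤ N := by
  intro k
  induction k with
  | zero =>
    intro A hA
    refine ⟨0, fun s hs _ _ x hx => ?_⟩
    rw [Multiset.card_eq_zero] at hs
    subst hs
    simp at hx
  | succ k ih =>
    intro A hA
    obtain ⟨T, hT⟩ : ∃ T : ℕ, T = ⌊((k : ℚ) + 1) / A⌋₊ := ⟨_, rfl⟩
    have hex : ∀ m : ℕ, ∃ N : ℕ, 0 < A - 1 / (m : ℚ) → ∀ s : Multiset ℕ,
        Multiset.card s = k → (∀ x ∈ s, 0 < x) →
        (s.map (fun x : ℕ => (1 : ℚ) / x)).sum = A - 1 / (m : ℚ) → ∀ x ∈ s, x ≤ N := by
      intro m
      by_cases h : 0 < A - 1 / (m : ℚ)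
      · obtain ⟨N, hN⟩ := ih _ h
        exact ⟨N, fun _ => hN⟩
      · exact ⟨0, fun h' => absurd h' h⟩
    choose F hF using hex
    refine ⟨(Finset.range (T + 1)).sup F + T, fun s hs hpos hsum x hx => ?_⟩
    have hne : s ≠ 0 := by
      rintro rfl
      simp at hs
    obtain ⟨m, hm, hmin⟩ : ∃ m ∈ s, ∀ y ∈ s, m ≤ y := by
      have hne' : s.toFinset.Nonempty := by
        rw [Multiset.toFinset_nonempty]
        exact hne
      refine ⟨s.toFinset.min' hne', Multiset.mem_toFinset.1 (Finset.min'_mem _ _), fun y hy => ?_⟩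
      exact Finset.min'_le _ _ (Multiset.mem_toFinset.2 hy)
    have hm0 : 0 < m := hpos m hm
    have hmT : m ≤ T := by
      have h1 : (s.map (fun x : ℕ => (1 : ℚ) / x)).sum
          ≤ Multiset.card (s.map (fun x : ℕ => (1 : ℚ) / x)) • ((1 : ℚ) / m) := by
        apply Multiset.sum_le_card_nsmul
        intro y hy
        obtain ⟨z, hz, rfl⟩ := Multiset.mem_map.1 hy
        have hz0 : (0 : ℚ) < z := by exact_mod_cast hpos z hz
        have hm0' : (0 : ℚ) < m := by exact_mod_cast hm0
        have hmz : (m : ℚ) ≤ z := by exact_mod_cast hmin z hz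
        exact one_div_le_one_div_of_le hm0' hmz
      rw [Multiset.card_map, hs, hsum, nsmul_eq_mul] at h1
      have hm0' : (0 : ℚ) < m := by exact_mod_cast hm0
      rw [hT]
      apply Nat.le_floor
      rw [le_div_iff₀ hA]
      have h2 : A * (m : ℚ) ≤ ((k + 1 : ℕ) : ℚ) * (1 / (m : ℚ)) * m :=
        mul_le_mul_of_nonneg_right h1 hm0'.le
      have h3 : ((k + 1 : ℕ) : ℚ) * (1 / (m : ℚ)) * m = (k : ℚ) + 1 := by
        push_cast
        field_simp
      rw [h3] at h2
      linarith
    obtain ⟨t, rfl⟩ := Multiset.exists_cons_of_mem hm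
    rw [Multiset.card_cons] at hs
    rw [Multiset.map_cons, Multiset.sum_cons] at hsum
    have hs' : Multiset.card t = k := by omega
    rcases Multiset.mem_cons.1 hx with rfl | hxt
    · exact le_trans hmT (Nat.le_add_left _ _)
    · by_cases h : 0 < A - 1 / (m : ℚ)
      · have h4 := hF m h t hs' (fun y hy => hpos y (Multiset.mem_cons_of_mem hy))
          (by linarith) x hxt
        have h5 : F m ≤ (Finset.range (T + 1)).sup F :=
          Finset.le_sup (f := F) (Finset.mem_range.2 (by omega))
        omega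
      · exfalso
        have hx0 : (0 : ℚ) < x := by exact_mod_cast hpos x (Multiset.mem_cons_of_mem hxt)
        obtain ⟨t', rfl⟩ := Multiset.exists_cons_of_mem hxt
        rw [Multiset.map_cons, Multiset.sum_cons] at hsum
        have h6 : 0 ≤ (t'.map (fun x : ℕ => (1 : ℚ) / x)).sum := by
          apply Multiset.sum_nonneg
          intro y hy
          obtain ⟨z, hz, rfl⟩ := Multiset.mem_map.1 hy
          positivity
        have h7 : (0 : ℚ) < 1 / x := by positivity
        linarith

/-- The size of a conjugacy class divides the group order. -/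
theorem ncard_carrier_dvd {G : Type u} [Group G] [Finite G] (c : ConjClasses G) :
    c.carrier.ncard ∣ Nat.card G := by
  classical
  have := Fintype.ofFinite G
  obtain ⟨g, rfl⟩ := ConjClasses.mk_surjective c
  rw [← ConjAct.orbit_eq_carrier_conjClasses]
  have h := MulAction.card_orbit_mul_card_stabilizer_eq_card_group (ConjAct G) g
  rw [← Nat.card_coe_set_eq, Nat.card_eq_fintype_card]
  have h2 : Fintype.card (ConjAct G) = Nat.card G := by
    rw [Nat.card_eq_fintype_card]
    exact Fintype.card_congr (ConjAct.ofConjAct (G := G)).toEquiv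
  rw [← h2, ← h]
  exact Dvd.intro _ rfl

/-- **Landau's theorem**: the order of a finite group is bounded in terms of its class number. -/
theorem landau_bound (k : ℕ) : ∃ N : ℕ, ∀ (G : Type u) [Group G] [Finite G],
    Nat.card (ConjClasses G) ≤ k → Nat.card G ≤ N := by
  choose F hF using fun j : ℕ => unit_fraction_bound j 1 one_pos
  refine ⟨(Finset.range (k + 1)).sup F, ?_⟩
  intro G _ _ hk
  classical
  have := Fintype.ofFinite G
  have := Fintype.ofFinite (ConjClasses G)
  have hG0 : 0 < Nat.card G := Nat.card_pos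
  have hGq : (0 : ℚ) < (Nat.card G : ℚ) := by exact_mod_cast hG0
  obtain ⟨s, hs⟩ : ∃ s : Multiset ℕ, s = (Finset.univ : Finset (ConjClasses G)).val.map
      (fun c => Nat.card G / c.carrier.ncard) := ⟨_, rfl⟩
  have hcpos : ∀ c : ConjClasses G, 0 < c.carrier.ncard := by
    intro c
    exact Nat.pos_of_dvd_of_pos (ncard_carrier_dvd c) hG0
  have hcard : Multiset.card s = Nat.card (ConjClasses G) := by
    rw [hs, Multiset.card_map, Nat.card_eq_fintype_card]
    rfl
  have hpos : ∀ x ∈ s, 0 < x := by
    intro x hx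
    rw [hs] at hx
    obtain ⟨c, _, rfl⟩ := Multiset.mem_map.1 hx
    exact Nat.div_pos (Nat.le_of_dvd hG0 (ncard_carrier_dvd c)) (hcpos c)
  have hsum : (s.map (fun x : ℕ => (1 : ℚ) / x)).sum = 1 := by
    rw [hs, Multiset.map_map]
    have h1 : ∀ c : ConjClasses G,
        ((fun x : ℕ => (1 : ℚ) / x) ∘ fun c : ConjClasses G => Nat.card G / c.carrier.ncard) c
          = (c.carrier.ncard : ℚ) / (Nat.card G : ℚ) := by
      intro c
      simp only [Function.comp_apply]
      obtain ⟨e, he⟩ := ncard_carrier_dvd c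
      have hc0 := hcpos c
      have he0 : 0 < e := by
        rcases Nat.eq_zero_or_pos e with h | h
        · rw [h, mul_zero] at he
          omega
        · exact h
      rw [he, Nat.mul_div_cancel_left _ hc0]
      have hc0' : (0 : ℚ) < (c.carrier.ncard : ℚ) := by exact_mod_cast hc0
      have he0' : (0 : ℚ) < (e : ℚ) := by exact_mod_cast he0
      push_cast
      field_simp
    rw [Multiset.map_congr rfl (fun c _ => h1 c)]
    change ∑ c : ConjClasses G, (c.carrier.ncard : ℚ) / (Nat.card G : ℚ) = 1
    rw [← Finset.sum_div, div_eq_one_iff_eq hGq.ne']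
    have h2 := Group.sum_card_conj_classes_eq_card G
    rw [finsum_eq_sum_of_fintype] at h2
    exact_mod_cast h2
  have hmem : Nat.card G ∈ s := by
    rw [hs]
    refine Multiset.mem_map.2 ⟨ConjClasses.mk (1 : G), Finset.mem_univ _, ?_⟩
    have h1 : (ConjClasses.mk (1 : G)).carrier = {1} := by
      ext x
      rw [ConjClasses.mem_carrier_iff_mk_eq, ConjClasses.mk_eq_mk_iff_isConj, isConj_one_left]
      rfl
    rw [h1, Set.ncard_singleton, Nat.div_one]
  have h3 := hF _ s hcard hpos hsum _ hmem
  exact le_trans h3 (Finset.le_sup (f := F) (Finset.mem_range.2 (by omega)))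

end Cfsg.Agent.Helper25
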